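/-
The edge map `R^q h_* (p_* M) ⟶ R^q (hp)_* M` is injective when the lower higher direct images along `p` vanish.
-/
import Groth.Agent.EtULABCLib.Leray
import Groth.Agent.EtBcLimLib.Main
import Groth.Agent.EtULABCLib.MonoLim
import Groth.Agent.EtShLib.PushStalk

set_option autoImplicit false
set_option linter.all false
set_option backward.isDefEq.respectTransparency false
set_option backward.isDefEq.respectTransparency.types false
set_option synthInstance.maxHeartbeats 400000
set_option maxHeartbeats 1600000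

universe u

open CategoryTheory CategoryTheory.Limits AlgebraicGeometry Opposite
open Groth.Agent Groth.Agent.EtShLib DescSecLib EtContLib EtBcLimLib

noncomputable section

namespace EtBcWitLib

attribute [local instance] EtSliceLib.pullExact

variable {A B C : Scheme.{u}} (p : A ⟶ B) (h : B ⟶ C) (hh : A ⟶ C) (w : p ≫ h = hh ≫ 𝟙 C)

/-- The edge map. -/
abbrev edge (q : ℕ) (M : EtCoh.Ab A) :
    (EtCoh.Rpush h q).obj ((EtCoh.push p).obj M) ⟶ (EtCoh.push (𝟙 C)).obj ((EtCoh.Rpush hh q).obj M) :=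
  R h hh (𝟙 C) p w q (𝟙 ((EtCoh.push p).obj M))

theorem isIso_edge_zero (M : EtCoh.Ab A) : IsIso (edge p h hh w 0 M) := by
  haveI : IsIso ((EtCoh.push h).toRightDerivedZero.app ((EtCoh.push p).obj M)) := inferInstance
  haveI : IsIso ((EtCoh.push hh).toRightDerivedZero.app M) := inferInstance
  haveI : IsIso ((EtBcQLib.sqα h (𝟙 C) hh p w).app M) := by
    have : IsIso (EtBcQLib.sqα h (𝟙 C) hh p w) := by
      show IsIso (_ ≫ _)
      infer_instance
    infer_instance
  rw [← isIso_comp_left_iff ((EtCoh.push h).toRightDerivedZero.app ((EtCoh.push p).obj M)), toRightDerivedZero_R]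
  infer_instance

theorem mono_edge : ∀ (q : ℕ) (M : EtCoh.Ab A), (∀ s, s + 2 ≤ q → IsZero ((EtCoh.Rpush p (s + 1)).obj M)) →
    Mono (edge p h hh w q M) := by
  intro q
  induction q with
  | zero =>
    intro M _
    haveI := isIso_edge_zero p h hh w M
    infer_instance
  | succ q ih =>
    intro M hM
    haveI : (EtCoh.push p).Additive := inferInstance
    haveI : PreservesFiniteLimits (EtCoh.push p) :=
      haveI : PreservesLimitsOfSize.{0, 0} (EtCoh.push p) := (EtCoh.pullPushAdj p).rightAdjoint_preservesLimits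
      PreservesLimitsOfSize.preservesFiniteLimits _
    let ι := Injective.ι M
    let U' : ShortComplex (EtCoh.Ab A) := ShortComplex.mk ι (cokernel.π ι) (cokernel.condition _)
    have hU' : U'.ShortExact := { exact := ShortComplex.exact_of_g_is_cokernel _ (cokernelIsCokernel _) }
    let U : ShortComplex (EtCoh.Ab B) :=
      ShortComplex.mk ((EtCoh.push p).map ι) (cokernel.π ((EtCoh.push p).map ι)) (cokernel.condition _)
    have hU : U.ShortExact := { exact := ShortComplex.exact_of_g_is_cokernel _ (cokernelIsCokernel _) }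
    let τ₃ : U.X₃ ⟶ (EtCoh.push p).obj U'.X₃ := cokernel.desc _ ((EtCoh.push p).map U'.g) (by
      rw [← Functor.map_comp]
      exact (congrArg _ U'.zero).trans (Functor.map_zero _ _ _))
    let φ : U ⟶ U'.map (EtCoh.push p) :=
      { τ₁ := 𝟙 _
        τ₂ := 𝟙 _
        τ₃ := τ₃
        comm₁₂ := by
          show 𝟙 _ ≫ (EtCoh.push p).map ι = (EtCoh.push p).map ι ≫ 𝟙 _
          rw [Category.id_comp, Category.comp_id]
        comm₂₃ := by
          show 𝟙 _ ≫ (EtCoh.push p).map U'.g = cokernel.π _ ≫ τ₃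
          rw [Category.id_comp, cokernel.π_desc] }
    haveI hτ : Mono τ₃ := by
      refine Preadditive.mono_of_cancel_zero _ fun {Z} y hy => ?_
      obtain ⟨Z₁, π, hπ, x, hx⟩ := surjective_up_to_refinements_of_epi (cokernel.π ((EtCoh.push p).map ι)) y
      have hl' : ∀ W : ShortComplex (EtCoh.Ab A), W.Exact ∧ Mono W.f →
          (W.map (EtCoh.push p)).Exact ∧ Mono ((EtCoh.push p).map W.f) :=
        (Functor.preservesFiniteLimits_tfae (EtCoh.push p) |>.out 3 1).1 ‹PreservesFiniteLimits (EtCoh.push p)›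
      have hl := hl' U' ⟨hU'.exact, hU'.mono_f⟩
      have hx0 : x ≫ (EtCoh.push p).map U'.g = 0 := by
        rw [show (EtCoh.push p).map U'.g = cokernel.π _ ≫ τ₃ from (cokernel.π_desc _ _ _).symm, ← Category.assoc, ← hx,
          Category.assoc, hy, comp_zero]
      obtain ⟨Z₂, π', hπ', x', hx'⟩ := hl.1.exact_up_to_refinements x hx0
      change π' ≫ x = x' ≫ (EtCoh.push p).map ι at hx'
      rw [← cancel_epi π, comp_zero, hx, ← cancel_epi π', comp_zero, ← Category.assoc, hx', Category.assoc,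
        cokernel.condition, comp_zero]
    haveI : Injective U'.X₂ := inferInstanceAs (Injective (Injective.under M))
    haveI : Injective U.X₂ := (EtCoh.push p).injective_obj U'.X₂
    let T := EtCechInjLib.derDelta (EtCoh.push h)
    let T' := EtCechInjLib.derDelta (EtCoh.push hh)
    have hd := R_delta h hh (𝟙 C) p w q hU hU' φ
    change T.δ hU q ≫ edge p h hh w (q + 1) M =
      R h hh (𝟙 C) p w q τ₃ ≫ (EtCoh.push (𝟙 C)).map (T'.δ hU' q) at hd
    haveI : Epi (T.δ hU q) := T.epi_δ hU q (Functor.isZero_rightDerived_obj_injective_succ (EtCoh.push h) q U.X₂)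
    have hR : R h hh (𝟙 C) p w q τ₃ = (EtCoh.Rpush h q).map τ₃ ≫ edge p h hh w q U'.X₃ :=
      (by rw [R_pre, Category.comp_id] : (EtCoh.Rpush h q).map τ₃ ≫ edge p h hh w q U'.X₃ = _).symm
    refine Preadditive.mono_of_cancel_zero _ fun {Z} z hz => ?_
    obtain ⟨Z₁, π, hπ, y, hy⟩ := surjective_up_to_refinements_of_epi (T.δ hU q) z
    have h0 : (y ≫ R h hh (𝟙 C) p w q τ₃) ≫ (EtCoh.push (𝟙 C)).map (T'.δ hU' q) = 0 := by
      rw [Category.assoc, ← hd, ← Category.assoc, ← hy, Category.assoc, hz, comp_zero]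
    rw [← cancel_epi π, comp_zero, hy]
    haveI := T'.preservesZero q
    haveI : PreservesFiniteColimits (EtCoh.push (𝟙 C)) := EtBcKilledLib.preservesFiniteColimits_push_integral (𝟙 C)
    haveI : PreservesFiniteLimits (EtCoh.push (𝟙 C)) :=
      haveI : PreservesLimitsOfSize.{0, 0} (EtCoh.push (𝟙 C)) := (EtCoh.pullPushAdj (𝟙 C)).rightAdjoint_preservesLimits
      PreservesLimitsOfSize.preservesFiniteLimits _
    have hex := (T'.exact₃ hU' q).map (EtCoh.push (𝟙 C))
    obtain ⟨Z₂, π', hπ', x, hx⟩ := hex.exact_up_to_refinements (y ≫ R h hh (𝟙 C) p w q τ₃) h0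
    change π' ≫ y ≫ R h hh (𝟙 C) p w q τ₃ = x ≫ (EtCoh.push (𝟙 C)).map ((T'.F q).map U'.g) at hx
    cases q with
    | zero =>
      haveI := isIso_edge_zero p h hh w U'.X₂
      haveI := isIso_edge_zero p h hh w U'.X₃
      haveI : Mono ((EtCoh.Rpush h 0).map τ₃) := by
        haveI : PreservesFiniteLimits (EtCoh.push h) :=
          haveI : PreservesLimitsOfSize.{0, 0} (EtCoh.push h) := (EtCoh.pullPushAdj h).rightAdjoint_preservesLimits
          PreservesLimitsOfSize.preservesFiniteLimits _
        exact ((MorphismProperty.monomorphisms _).arrow_mk_iso_iff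
          (Arrow.isoMk (asIso ((EtCoh.push h).toRightDerivedZero.app U.X₃))
            (asIso ((EtCoh.push h).toRightDerivedZero.app ((EtCoh.push p).obj U'.X₃)))
            ((EtCoh.push h).toRightDerivedZero.naturality τ₃).symm)).1
          (inferInstanceAs (Mono ((EtCoh.push h).map τ₃)))
      haveI : Mono (R h hh (𝟙 C) p w 0 τ₃) := by
        rw [hR]
        exact mono_comp _ _
      have hn : (EtCoh.Rpush h 0).map U.g ≫ R h hh (𝟙 C) p w 0 τ₃ =
          edge p h hh w 0 U'.X₂ ≫ (EtCoh.push (𝟙 C)).map ((EtCoh.Rpush hh 0).map U'.g) :=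
        R_natural h hh (𝟙 C) p w 0 _ τ₃ U.g U'.g φ.comm₂₃
      have hy' : π' ≫ y = (x ≫ inv (edge p h hh w 0 U'.X₂)) ≫ (EtCoh.Rpush h 0).map U.g := by
        rw [← cancel_mono (R h hh (𝟙 C) p w 0 τ₃), Category.assoc, hx, Category.assoc, Category.assoc, hn,
          IsIso.inv_hom_id_assoc]
        rfl
      rw [← cancel_epi π', comp_zero, ← Category.assoc, hy', Category.assoc]
      erw [T.map_comp_δ hU 0]
      exact comp_zero
    | succ q =>
      have hzJ : IsZero ((EtCoh.push (𝟙 C)).obj ((T'.F (q + 1)).obj U'.X₂)) :=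
        (EtCoh.push (𝟙 C)).map_isZero (Functor.isZero_rightDerived_obj_injective_succ (EtCoh.push hh) q U'.X₂)
      rw [hzJ.eq_of_tgt x 0, zero_comp] at hx
      haveI : Epi τ₃ := by
        haveI : Epi (cokernel.π ((EtCoh.push p).map ι) ≫ τ₃) := by
          rw [cokernel.π_desc]
          exact (EtULABCLib.isZero_one_iff p hU'
            (Functor.isZero_rightDerived_obj_injective_succ (EtCoh.push p) 0 U'.X₂)).1 (hM 0 (by omega))
        exact epi_of_epi (cokernel.π ((EtCoh.push p).map ι)) τ₃
      haveI : IsIso τ₃ := isIso_of_mono_of_epi τ₃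
      haveI : Mono (edge p h hh w (q + 1) U'.X₃) := ih U'.X₃ fun s hs => by
        haveI := EtULABCLib.isIso_δ_of_injective p hU' s
        exact IsZero.of_iso (hM (s + 1) (by omega)) (asIso ((EtCechInjLib.derDelta (EtCoh.push p)).δ hU' (s + 1)))
      haveI : Mono (R h hh (𝟙 C) p w (q + 1) τ₃) := by
        rw [hR]
        exact mono_comp _ _
      have hy' : π' ≫ y = 0 := by
        rw [← cancel_mono (R h hh (𝟙 C) p w (q + 1) τ₃), Category.assoc, hx, zero_comp]
      rw [← cancel_epi π', comp_zero, ← Category.assoc, hy', zero_comp]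

/-- The edge map is injective on stalks. -/
theorem injective_sig_edge (q : ℕ) (M : EtCoh.Ab A)
    (hM : ∀ s, s + 2 ≤ q → IsZero ((EtCoh.Rpush p (s + 1)).obj M))
    {Ω : Type u} [Field Ω] [IsSepClosed Ω] (ξ η : Spec (CommRingCat.of Ω) ⟶ C) (wξ : ξ ≫ 𝟙 C = η) :
    Function.Injective (sig (𝟙 C) ξ η wξ (edge p h hh w q M)) := by
  haveI := mono_edge p h hh w q M hM
  haveI : Mono (adjL (𝟙 C) (edge p h hh w q M)) := by
    rw [adjL, Adjunction.homEquiv_counit]
    haveI := counit_isIso_of_openImmersion (i := 𝟙 C) ((EtCoh.Rpush hh q).obj M)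
    exact mono_comp _ _
  exact EtULABCLib.injective_sig _ _ _ _ _

end EtBcWitLib
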