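/-
Tracking one obstruction to surjectivity of base change along morphisms to the source.
-/
import Groth.Agent.EtBcWitLib.Edge
import Groth.Agent.EtULABCLib.Good
import Groth.Agent.EtBcKilledLib.Mono
import Groth.Agent.EtBcBridgeLib.Criterion

set_option autoImplicit false
set_option linter.all false
set_option backward.isDefEq.respectTransparency false
set_option backward.isDefEq.respectTransparency.types false
set_option synthInstance.maxHeartbeats 400000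
set_option maxHeartbeats 1600000

universe u

open CategoryTheory CategoryTheory.Limits AlgebraicGeometry Opposite
open Groth.Agent Groth.Agent.EtShLib DescSecLib EtContLib EtBcLimLib

noncomputable section

namespace EtBcWitLib

attribute [local instance] EtSliceLib.pullExact

/-- Base change in degrees `≤ q` on sheaves killed by `n` after every base change of `f`. -/
def Low {X S : Scheme.{u}} (f : X ⟶ S) (n q : ℕ) : Prop :=
  ∀ ⦃S₁ X₁ T₁ Y₁ : Scheme.{u}⦄ (p₁ : S₁ ⟶ S) (f₁ : X₁ ⟶ S₁) (r₁ : X₁ ⟶ X),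
    IsPullback r₁ f₁ f p₁ →
    ∀ (g₁ : T₁ ⟶ S₁) (h₁ : Y₁ ⟶ X₁) (e₁ : Y₁ ⟶ T₁) (c₁ : IsPullback e₁ h₁ g₁ f₁)
      [QuasiCompact g₁] [QuasiSeparated g₁] [PreservesFiniteLimits (EtCoh.pull e₁)]
      (G₁ : EtCoh.Ab T₁), EtCoh.KilledBy n G₁ →
      ∀ q₁ : ℕ, q₁ ≤ q → IsIso (EtBC.bcQ g₁ f₁ h₁ e₁ c₁.w q₁ G₁)

theorem Low.baseChange {X S S₂ X₂ : Scheme.{u}} {f : X ⟶ S} {n q : ℕ} (H : Low f n q) {p₂ : S₂ ⟶ S}
    {f₂ : X₂ ⟶ S₂} {r₂ : X₂ ⟶ X} (c : IsPullback r₂ f₂ f p₂) : Low f₂ n q :=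
  fun _ _ _ _ p₁ f₁ r₁ c₁ g₁ h₁ e₁ ce _ _ _ G hG q₁ hq =>
    H (p₁ ≫ p₂) f₁ (r₁ ≫ r₂) (c₁.paste_horiz c) g₁ h₁ e₁ ce G hG q₁ hq

variable {X S T Y : Scheme.{u}}

/-- A morphism to the source, with its base change. -/
structure St (g : T ⟶ S) (h : Y ⟶ X) (e : Y ⟶ T) where
  T' : Scheme.{u}
  Y' : Scheme.{u}
  t : T' ⟶ T
  t' : Y' ⟶ Y
  e' : Y' ⟶ T'
  gt : T' ⟶ S
  ht : Y' ⟶ X
  hg : t ≫ g = gt
  hh : t' ≫ h = ht
  c : IsPullback e' t' t e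

variable {g : T ⟶ S} {h : Y ⟶ X} {e : Y ⟶ T}

theorem St.wS (E : St g h e) : E.t ≫ g = E.gt ≫ 𝟙 S := by rw [E.hg, Category.comp_id]
theorem St.wX (E : St g h e) : E.t' ≫ h = E.ht ≫ 𝟙 X := by rw [E.hh, Category.comp_id]

theorem St.cart (E : St g h e) {f : X ⟶ S} (c : IsPullback e h g f) : IsPullback E.e' E.ht E.gt f := by
  rw [← E.hg, ← E.hh]
  exact E.c.paste_vert c

/-- The induced map of inverse images. -/
abbrev St.vmap (E : St g h e) {G : EtCoh.Ab T} {G' : EtCoh.Ab E.T'} (ψ : G ⟶ (EtCoh.push E.t).obj G') :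
    (EtCoh.pull e).obj G ⟶ (EtCoh.push E.t').obj ((EtCoh.pull E.e').obj G') :=
  lift E.t' e E.e' E.t E.c.w.symm ψ ((EtCoh.pullPushAdj E.e').unit.app G')

variable {Ω : Type u} [Field Ω] [IsSepClosed Ω] (ξ : Spec (CommRingCat.of Ω) ⟶ X) (q : ℕ)

/-- The obstruction transported. -/
abbrev St.img (E : St g h e) {G : EtCoh.Ab T} {G' : EtCoh.Ab E.T'} (ψ : G ⟶ (EtCoh.push E.t).obj G') :=
  sig (𝟙 X) ξ ξ (Category.comp_id ξ) (R h E.ht (𝟙 X) E.t' E.wX q (E.vmap ψ))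

/-- The base change map on stalks. -/
abbrev bc {f : X ⟶ S} (c : IsPullback e h g f) (G : EtCoh.Ab T) :=
  sig f ξ (ξ ≫ f) rfl (R g h f e c.w q ((EtCoh.pullPushAdj e).unit.app G))

variable {f : X ⟶ S} (c : IsPullback e h g f)

/-- The transported class comes from the base. -/
def Zero (E : St g h e) {G : EtCoh.Ab T} {G' : EtCoh.Ab E.T'} (ψ : G ⟶ (EtCoh.push E.t).obj G')
    (z : ToType ((stk (A := AddCommGrpCat.{u + 1}) ξ).obj ((EtCoh.Rpush h q).obj ((EtCoh.pull e).obj G)))) : Prop :=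
  ∃ y, bc ξ q (E.cart c) G' y = E.img ξ q ψ z

theorem img_bc (E : St g h e) {G : EtCoh.Ab T} {G' : EtCoh.Ab E.T'} (ψ : G ⟶ (EtCoh.push E.t).obj G')
    (y : ToType ((stk (A := AddCommGrpCat.{u + 1}) (ξ ≫ f)).obj ((EtCoh.Rpush g q).obj G))) :
    E.img ξ q ψ (bc ξ q c G y) =
      bc ξ q (E.cart c) G' (sig (𝟙 S) (ξ ≫ f) (ξ ≫ f) (Category.comp_id _) (R g E.gt (𝟙 S) E.t E.wS q ψ) y) :=
  sig_R_lift E.t' e E.e' E.t E.c.w.symm ψ ((EtCoh.pullPushAdj E.e').unit.app G') g h E.gt E.ht (𝟙 X) f f (𝟙 S)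
    (by rw [Category.id_comp, Category.comp_id]) c.w E.wX E.wS (E.cart c).w q ξ ξ (ξ ≫ f) (ξ ≫ f)
    (Category.comp_id ξ) rfl rfl (Category.comp_id _) y

/-- Composite. -/
def St.trans (E : St g h e) (E' : St E.gt E.ht E.e') : St g h e where
  T' := E'.T'
  Y' := E'.Y'
  t := E'.t ≫ E.t
  t' := E'.t' ≫ E.t'
  e' := E'.e'
  gt := E'.gt
  ht := E'.ht
  hg := by rw [Category.assoc, E.hg, E'.hg]
  hh := by rw [Category.assoc, E.hh, E'.hh]
  c := E'.c.paste_vert E.c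

variable (E : St g h e) (E' : St E.gt E.ht E.e') {G : EtCoh.Ab T} {G' : EtCoh.Ab E.T'} {G'' : EtCoh.Ab E'.T'}
  (ψ : G ⟶ (EtCoh.push E.t).obj G') (ψ' : G' ⟶ (EtCoh.push E'.t).obj G'')
  (ψ'' : G ⟶ (EtCoh.push (E'.t ≫ E.t)).obj G'')
  (hψ : ψ ≫ (EtCoh.push E.t).map ψ' = ψ'' ≫ (etPc E'.t E.t (E'.t ≫ E.t) rfl).app G'')

include hψ in
theorem vmap_trans : E.vmap ψ ≫ (EtCoh.push E.t').map (E'.vmap ψ') =
    (E.trans E').vmap ψ'' ≫ (etPc E'.t' E.t' (E'.t' ≫ E.t') rfl).app ((EtCoh.pull E'.e').obj G'') := by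
  refine comp_ext_of_sig _ _ _ rfl _ _ _ fun Ω _ _ ζ y => ?_
  obtain ⟨y₀, rfl⟩ := (bijective_sig_unit e G ((ζ ≫ E'.t') ≫ E.t') (((ζ ≫ E'.t') ≫ E.t') ≫ e) rfl).2 y
  have w1 : ((ζ ≫ E'.e') ≫ E'.t) ≫ E.t = ((ζ ≫ E'.t') ≫ E.t') ≫ e := by
    simp only [Category.assoc]
    rw [reassoc_of% E'.c.w, E.c.w]
  have w2 : (ζ ≫ E'.t') ≫ E.e' = (ζ ≫ E'.e') ≫ E'.t := by
    simp only [Category.assoc]
    rw [E'.c.w]
  erw [sig_lift E.t' e E.e' E.t E.c.w.symm ψ ((EtCoh.pullPushAdj E.e').unit.app G') (ζ ≫ E'.t')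
    ((ζ ≫ E'.t') ≫ E.t') ((ζ ≫ E'.e') ≫ E'.t) (((ζ ≫ E'.t') ≫ E.t') ≫ e) rfl w2 rfl w1 y₀]
  erw [sig_lift E'.t' E.e' E'.e' E'.t E'.c.w.symm ψ' ((EtCoh.pullPushAdj E'.e').unit.app G'') ζ
    (ζ ≫ E'.t') (ζ ≫ E'.e') ((ζ ≫ E'.e') ≫ E'.t) rfl rfl w2 rfl _]
  refine Eq.trans ?_ (sig_lift (E'.t' ≫ E.t') e E'.e' (E'.t ≫ E.t) (E.trans E').c.w.symm ψ''
    ((EtCoh.pullPushAdj E'.e').unit.app G'') ζ ((ζ ≫ E'.t') ≫ E.t') (ζ ≫ E'.e')
    (((ζ ≫ E'.t') ≫ E.t') ≫ e) (Category.assoc _ _ _).symm rfl rfl (by simp only [Category.assoc] at w1 ⊢; exact w1) y₀).symm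
  exact congrArg _ (sig_comp E'.t E.t (E'.t ≫ E.t) rfl (ζ ≫ E'.e') ((ζ ≫ E'.e') ≫ E'.t) _ rfl w1
    (by simp only [Category.assoc] at w1 ⊢; exact w1) ψ ψ' ψ'' hψ y₀)

include hψ in
theorem img_trans (z : ToType ((stk (A := AddCommGrpCat.{u + 1}) ξ).obj
    ((EtCoh.Rpush h q).obj ((EtCoh.pull e).obj G)))) :
    E'.img ξ q ψ' (E.img ξ q ψ z) = (E.trans E').img ξ q ψ'' z :=
  sig_comp (𝟙 X) (𝟙 X) (𝟙 X) (Category.comp_id _) ξ ξ ξ (Category.comp_id _) (Category.comp_id _)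
    (Category.comp_id _) _ _ _
    (R_comp h E.ht (𝟙 X) E.t' E.wX E'.ht (𝟙 X) E'.t' E'.wX (𝟙 X) (E'.t' ≫ E.t') (E.trans E').wX
      (Category.comp_id _) rfl q _ _ _ (vmap_trans E E' ψ ψ' ψ'' hψ)) z

include hψ in
/-- What comes from the base keeps doing so. -/
theorem zero_trans {z} (hz : Zero ξ q c E ψ z) : Zero ξ q c (E.trans E') ψ'' z := by
  obtain ⟨y, hy⟩ := hz
  exact ⟨_, ((img_bc ξ q (E.cart c) E' ψ' y).symm.trans (congrArg _ hy)).trans (img_trans ξ q E E' ψ ψ' ψ'' hψ z)⟩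

section Joint

omit hψ

/-- Injective sheaves cut to their part killed by any integer have no higher direct images. -/
theorem isZero_Rpush_kernel' {Z W : Scheme.{u}} (I : EtCoh.Ab Z) [Injective I] (n : ℕ) (a : Z ⟶ W) (s : ℕ) :
    IsZero ((EtCoh.Rpush a (s + 1)).obj (kernel (n • 𝟙 I))) := by
  rcases Nat.eq_zero_or_pos n with rfl | hn
  · exact (Functor.isZero_rightDerived_obj_injective_succ (EtCoh.push a) s I).of_iso
      ((EtCoh.Rpush a (s + 1)).mapIso (kernelIsoOfEq (zero_smul ℕ (𝟙 I)) ≪≫ kernelZeroIsoSource))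
  · exact EtBcKilledLib.isZero_Rpush_kernel I hn a s

theorem pushCongr_etPc {A B C : Scheme.{u}} (a : A ⟶ B) (b : B ⟶ C) (d : A ⟶ C) (w : a ≫ b = d) (M : EtCoh.Ab A) :
    (EtCoh.pushCongr w).hom.app M ≫ (etPc a b d w).app M = (etPc a b (a ≫ b) rfl).app M := by
  subst w
  haveI := EtBcKilledLib.isIso_etPc a b (a ≫ b) rfl
  have h1 := pushCongr_pc a b (a ≫ b) rfl M
  exact h1

/-- `baseChange0` is the map of inverse images attached to the identity. -/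
theorem vmap_id (G' : EtCoh.Ab E.T') :
    E.vmap (𝟙 ((EtCoh.push E.t).obj G')) = EtCoh.baseChange0 E.t e E.t' E.e' E.c.w G' := by
  obtain ⟨δ, h1, h2⟩ := lift_spec E.t' e E.e' E.t E.c.w.symm (𝟙 ((EtCoh.push E.t).obj G'))
    ((EtCoh.pullPushAdj E.e').unit.app G')
  rw [Category.id_comp] at h2
  apply ((EtCoh.pullPushAdj e).homEquiv _ _).injective
  rw [EtCoh.baseChange0, Equiv.apply_symm_apply, Adjunction.homEquiv_unit, h1]
  erw [h2]
  rw [EtSliceLib.pushComp_inv_eq e E.t', Category.assoc]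
  refine congrArg (δ ≫ ·) ?_
  have h5 : (DescSecLib.etPc E.e' E.t (E.e' ≫ E.t) rfl).app ((EtCoh.pull E.e').obj G') ≫
      (EtCoh.pushComp E.t E.e').hom.app ((EtCoh.pull E.e').obj G') = 𝟙 _ := by
    rw [← EtSliceLib.pushComp_inv_eq E.t E.e', Iso.inv_hom_id_app]
  rw [pushCongr_pc E.t' e (E.e' ≫ E.t) E.c.w ((EtCoh.pull E.e').obj G'),
    ← pushCongr_pc E.e' E.t (E.t' ≫ e) E.c.w.symm ((EtCoh.pull E.e').obj G')]
  simp only [Category.assoc]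
  rw [reassoc_of% h5]
  exact (pushCongr_etPc E.t' e (E.e' ≫ E.t) E.c.w.symm ((EtCoh.pull E.e').obj G')).symm

include c in
theorem injective_img_id {n : ℕ} {q : ℕ} (hq : 1 ≤ q) (Hlow : Low f n (q - 1)) [QuasiCompact E.t]
    [QuasiSeparated E.t] {I : EtCoh.Ab E.T'} [Injective I] :
    Function.Injective (E.img ξ q (𝟙 ((EtCoh.push E.t).obj (kernel (n • 𝟙 I))))) := by
  let M := kernel (n • 𝟙 I)
  have hM := EtBcKilledLib.killed_kernel I n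
  have hbc : ∀ s, s ≤ q - 1 → IsIso (EtBC.bcQ E.t e E.t' E.e' E.c.w s M) := fun s hs =>
    Hlow g e h c.flip E.t E.t' E.e' E.c M hM s hs
  haveI : IsIso (EtCoh.baseChange0 E.t e E.t' E.e' E.c.w M) :=
    (EtULABCLib.isIso_bcQ_zero_iff E.t e E.t' E.e' E.c M).1 (hbc 0 (Nat.zero_le _))
  have hv : R h E.ht (𝟙 X) E.t' E.wX q (E.vmap (𝟙 ((EtCoh.push E.t).obj M))) =
      (EtCoh.Rpush h q).map (EtCoh.baseChange0 E.t e E.t' E.e' E.c.w M) ≫
        edge E.t' h E.ht E.wX q ((EtCoh.pull E.e').obj M) := by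
    rw [R_pre, Category.comp_id, vmap_id]
  intro a b hab
  have hinj := injective_sig_edge E.t' h E.ht E.wX q ((EtCoh.pull E.e').obj M) (fun s hs =>
    EtULABCLib.isZero_tgt E.t e E.t' E.e' E.c (s + 1) M (hbc (s + 1) (by omega))
      (isZero_Rpush_kernel' I n E.t s)) ξ ξ (Category.comp_id ξ)
  rw [St.img, hv, sig_precomp, sig_precomp] at hab
  exact (ConcreteCategory.bijective_of_isIso ((stk (A := AddCommGrpCat.{u + 1}) ξ).map
    ((EtCoh.Rpush h q).map (EtCoh.baseChange0 E.t e E.t' E.e' E.c.w M)))).1 (hinj hab)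

theorem img_natural {P : EtCoh.Ab T} {P' : EtCoh.Ab E.T'} (φ : P ⟶ (EtCoh.push E.t).obj P') (u : G' ⟶ P')
    (a : G ⟶ P) (hu : ψ ≫ (EtCoh.push E.t).map u = a ≫ φ)
    (z : ToType ((stk (A := AddCommGrpCat.{u + 1}) ξ).obj ((EtCoh.Rpush h q).obj ((EtCoh.pull e).obj G)))) :
    E.img ξ q φ ((stk ξ).map ((EtCoh.Rpush h q).map ((EtCoh.pull e).map a)) z) =
      (stk ξ).map ((EtCoh.Rpush E.ht q).map ((EtCoh.pull E.e').map u)) (E.img ξ q ψ z) := by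
  have hnat : E.vmap ψ ≫ (EtCoh.push E.t').map ((EtCoh.pull E.e').map u) =
      (EtCoh.pull e).map a ≫ E.vmap φ := by
    refine Sheaf.hom_ext (NatTrans.ext (funext fun V => ?_))
    ext s
    refine eq_of_germ (A := AddCommGrpCat.{u + 1}) ((EtCoh.pull E.e').obj P') _ _ fun Ω _ _ ζ w => ?_
    let v : Fib (ζ ≫ E.t') V.unop := Fib.proj E.t' ζ (U := V.unop) w
    have e1 : liftW E.t' ζ (ζ ≫ E.t') rfl v = w := by
      refine Fib.ext ?_
      apply pullback.hom_ext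
      · exact pullback.lift_fst _ _ _
      · exact (pullback.lift_snd _ _ _).trans w.w.symm
    obtain ⟨y₀, hy₀⟩ := (bijective_sig_unit e G (ζ ≫ E.t') ((ζ ≫ E.t') ≫ e) rfl).2
      (germ (ζ ≫ E.t') ((EtCoh.pull e).obj G) V.unop v s)
    have key : sig E.t' ζ (ζ ≫ E.t') rfl (E.vmap ψ ≫ (EtCoh.push E.t').map ((EtCoh.pull E.e').map u))
          (germ (ζ ≫ E.t') ((EtCoh.pull e).obj G) V.unop v s) =
        sig E.t' ζ (ζ ≫ E.t') rfl ((EtCoh.pull e).map a ≫ E.vmap φ)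
          (germ (ζ ≫ E.t') ((EtCoh.pull e).obj G) V.unop v s) := by
      have wc : (ζ ≫ E.e') ≫ E.t = (ζ ≫ E.t') ≫ e := by rw [Category.assoc, Category.assoc, E.c.w]
      rw [← hy₀, sig_postcomp, sig_precomp,
        sig_lift E.t' e E.e' E.t E.c.w.symm ψ _ ζ (ζ ≫ E.t') (ζ ≫ E.e') ((ζ ≫ E.t') ≫ e) rfl rfl rfl wc y₀,
        ← sig_postcomp E.e' ζ (ζ ≫ E.e') rfl,
        show (EtCoh.pullPushAdj E.e').unit.app G' ≫ (EtCoh.push E.e').map ((EtCoh.pull E.e').map u) =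
          u ≫ (EtCoh.pullPushAdj E.e').unit.app P' from ((EtCoh.pullPushAdj E.e').unit.naturality u).symm]
      refine (sig_precomp E.e' ζ (ζ ≫ E.e') rfl u ((EtCoh.pullPushAdj E.e').unit.app P') _).trans ?_
      rw [← sig_postcomp E.t (ζ ≫ E.e') _ wc, hu, sig_precomp,
        ← sig_lift E.t' e E.e' E.t E.c.w.symm φ _ ζ (ζ ≫ E.t') (ζ ≫ E.e') ((ζ ≫ E.t') ≫ e) rfl rfl rfl wc]
      refine congrArg _ ?_
      rw [← sig_postcomp e (ζ ≫ E.t') _ rfl]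
      erw [← sig_precomp]
      rw [
        show (EtCoh.pullPushAdj e).unit.app G ≫ (EtCoh.push e).map ((EtCoh.pull e).map a) =
          a ≫ (EtCoh.pullPushAdj e).unit.app P from ((EtCoh.pullPushAdj e).unit.naturality a).symm]
      rfl
    rw [germ_sig, germ_sig, e1] at key
    exact key
  show sig _ _ _ _ (R h E.ht (𝟙 X) E.t' E.wX q (E.vmap φ)) _ = _
  rw [← sig_precomp, R_pre, ← hnat, ← R_post, sig_postcomp]

include c in
theorem zero_after {n : ℕ} (i : ℕ) (Hlow : Low f n (i + 1 - 1)) [QuasiCompact E.t] [QuasiSeparated E.t]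
    {I : EtCoh.Ab E.T'} [Injective I] (u : G' ⟶ kernel (n • 𝟙 I))
    {z : ToType ((stk (A := AddCommGrpCat.{u + 1}) ξ).obj ((EtCoh.Rpush h (i + 1)).obj ((EtCoh.pull e).obj G)))}
    (hZ : Zero ξ (i + 1) c E ψ z) :
    (stk (A := AddCommGrpCat.{u + 1}) ξ).map
      ((EtCoh.Rpush h (i + 1)).map ((EtCoh.pull e).map (ψ ≫ (EtCoh.push E.t).map u))) z = 0 := by
  apply injective_img_id ξ c E (Nat.succ_pos i) Hlow
  rw [map_zero, img_natural ξ (i + 1) E ψ (𝟙 _) u _ (Category.comp_id _).symm z]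
  obtain ⟨y, hy⟩ := hZ
  rw [← hy]
  have hy0 : (stk (A := AddCommGrpCat.{u + 1}) (ξ ≫ f)).map ((EtCoh.Rpush E.gt (i + 1)).map u) y = 0 :=
    eq_zero_of_isZero (isZero_Rpush_kernel' I n E.gt i) (ξ ≫ f) _
  refine Eq.trans ?_ ((congrArg (bc ξ (i + 1) (E.cart c) (kernel (n • 𝟙 I))) hy0).trans (map_zero _))
  rw [← sig_postcomp]
  refine Eq.trans ?_ (sig_precomp f ξ (ξ ≫ f) rfl ((EtCoh.Rpush E.gt (i + 1)).map u) _ y)
  rw [R_pre, R_post]
  refine congrArg (fun t => sig f ξ (ξ ≫ f) rfl (R E.gt E.ht f E.e' (E.cart c).w (i + 1) t) y) ?_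
  exact ((EtCoh.pullPushAdj E.e').unit.naturality u).symm

/-- A class killed on a jointly injective pair comes from the base. -/
theorem mem_range_of_joint {n : ℕ} {q : ℕ} (hq : 1 ≤ q) (Hlow : Low f n (q - 1))
    [QuasiCompact g] [QuasiSeparated g] {G : EtCoh.Ab T} (hG : EtCoh.KilledBy n G)
    (E₁ E₂ : St g h e) [QuasiCompact E₁.t] [QuasiSeparated E₁.t] [QuasiCompact E₂.t] [QuasiSeparated E₂.t]
    {G₁ : EtCoh.Ab E₁.T'} {G₂ : EtCoh.Ab E₂.T'} (hG₁ : EtCoh.KilledBy n G₁) (hG₂ : EtCoh.KilledBy n G₂)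
    (ψ₁ : G ⟶ (EtCoh.push E₁.t).obj G₁) (ψ₂ : G ⟶ (EtCoh.push E₂.t).obj G₂) [Mono (biprod.lift ψ₁ ψ₂)]
    {z} (h₁ : Zero ξ q c E₁ ψ₁ z) (h₂ : Zero ξ q c E₂ ψ₂ z) : ∃ y, bc ξ q c G y = z := by
  have emb : ∀ {Z : Scheme.{u}} (F : EtCoh.Ab Z), EtCoh.KilledBy n F →
      ∃ (I : EtCoh.Ab Z) (_ : Injective I) (u : F ⟶ kernel (n • 𝟙 I)), Mono u := fun F hF =>
    ⟨Injective.under F, inferInstance,
      kernel.lift _ (Injective.ι F) (by
        rw [Preadditive.comp_nsmul, Category.comp_id, ← Category.id_comp (Injective.ι F), ← Preadditive.nsmul_comp,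
          (EtBcKilledLib.killed_iff F).1 hF, zero_comp]),
      mono_of_mono_fac (kernel.lift_ι _ _ _)⟩
  obtain ⟨I₁, _, u₁, hu₁⟩ := emb G₁ hG₁
  obtain ⟨I₂, _, u₂, hu₂⟩ := emb G₂ hG₂
  let P₁ := (EtCoh.push E₁.t).obj (kernel (n • 𝟙 I₁))
  let P₂ := (EtCoh.push E₂.t).obj (kernel (n • 𝟙 I₂))
  let a₁ : G ⟶ P₁ := ψ₁ ≫ (EtCoh.push E₁.t).map u₁
  let a₂ : G ⟶ P₂ := ψ₂ ≫ (EtCoh.push E₂.t).map u₂
  let ι : G ⟶ P₁ ⊞ P₂ := biprod.lift a₁ a₂
  haveI : Mono ι := by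
    rw [show ι = biprod.lift ψ₁ ψ₂ ≫ biprod.map ((EtCoh.push E₁.t).map u₁) ((EtCoh.push E₂.t).map u₂) by
      apply biprod.hom_ext
      · refine (biprod.lift_fst _ _).trans (Eq.trans ?_ (Category.assoc _ _ _).symm)
        rw [biprod.map_fst, ← Category.assoc, biprod.lift_fst]
      · refine (biprod.lift_snd _ _).trans (Eq.trans ?_ (Category.assoc _ _ _).symm)
        rw [biprod.map_snd, ← Category.assoc, biprod.lift_snd]]
    exact mono_comp _ _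
  have hP : EtCoh.KilledBy n (P₁ ⊞ P₂) := by
    have k₁ := (EtBcKilledLib.killed_iff _).1
      (EtBcKilledLib.killed_obj (EtCoh.push E₁.t) (EtBcKilledLib.killed_kernel I₁ n))
    have k₂ := (EtBcKilledLib.killed_iff _).1
      (EtBcKilledLib.killed_obj (EtCoh.push E₂.t) (EtBcKilledLib.killed_kernel I₂ n))
    rw [EtBcKilledLib.killed_iff]
    apply biprod.hom_ext
    · rw [Preadditive.nsmul_comp, Category.id_comp, zero_comp, ← Category.comp_id biprod.fst,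
        ← Preadditive.comp_nsmul, k₁, comp_zero]
    · rw [Preadditive.nsmul_comp, Category.id_comp, zero_comp, ← Category.comp_id biprod.snd,
        ← Preadditive.comp_nsmul, k₂, comp_zero]
  have hlow : ∀ F : EtCoh.Ab T, EtCoh.KilledBy n F → IsIso (EtBC.bcQ g f h e c.w (q - 1) F) := fun F hF =>
    Hlow (𝟙 S) f (𝟙 X) (IsPullback.of_horiz_isIso ⟨by simp⟩) g h e c F hF (q - 1) le_rfl
  obtain ⟨i, rfl⟩ : ∃ i, q = i + 1 := ⟨q - 1, by omega⟩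
  obtain ⟨φ, hφ, hfac⟩ := EtBcKilledLib.exists_mono_coker g f h e c.w hlow ι hP
  let S' := stk (A := AddCommGrpCat.{u + 1}) ξ
  let T' := EtCoh.Rpush h (i + 1)
  have h0 : S'.map (T'.map ((EtCoh.pull e).map ι)) z = 0 := by
    have hι : ι = a₁ ≫ biprod.inl + a₂ ≫ biprod.inr := by
      apply biprod.hom_ext <;> simp [ι]
    rw [hι]
    simp only [Functor.map_add, Functor.map_comp, AddCommGrpCat.hom_add, AddMonoidHom.add_apply,
      ConcreteCategory.comp_apply]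
    erw [zero_after ξ c E₁ ψ₁ i Hlow u₁ h₁, zero_after ξ c E₂ ψ₂ i Hlow u₂ h₂]
    simp
  have hmono : Function.Injective (S'.map φ) :=
    (AddCommGrpCat.mono_iff_injective _).1 ((mono_iff_stalks (A := AddCommGrpCat.{u + 1}) φ).1 hφ Ω ξ)
  have hc : S'.map (cokernel.π (EtBC.bcQ g f h e c.w (i + 1) G)) z = 0 := by
    apply hmono
    refine Eq.trans ?_ (map_zero (S'.map φ).hom).symm
    have e0 := congrArg (fun t => S'.map t z) hfac
    simp only [Functor.map_comp, ConcreteCategory.comp_apply] at e0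
    refine e0.trans ?_
    erw [h0]
    exact map_zero _
  obtain ⟨x, hx⟩ := stk_exact (ShortComplex.exact_of_g_is_cokernel
    (ShortComplex.mk (EtBC.bcQ g f h e c.w (i + 1) G) (cokernel.π _) (cokernel.condition _))
    (cokernelIsCokernel _)) ξ z hc
  refine ⟨(stalkPull f ξ AddCommGrpCat.{u + 1}).inv.app ((EtCoh.Rpush g (i + 1)).obj G) x, ?_⟩
  show sig f ξ (ξ ≫ f) rfl _ _ = z
  rw [sig, eqToHom_refl, Category.id_comp, adjL_R_unit, ConcreteCategory.comp_apply]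
  refine (congrArg _ (ConcreteCategory.congr_hom
    ((stalkPull f ξ AddCommGrpCat.{u + 1}).inv_hom_id_app ((EtCoh.Rpush g (i + 1)).obj G)) x)).trans ?_
  exact hx

end Joint

end EtBcWitLib
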