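/-
The obstruction as a property of schemes over the source.
-/
import Groth.Agent.EtBcWitLib.Obst

set_option autoImplicit false
set_option linter.all false
set_option backward.isDefEq.respectTransparency false
set_option backward.isDefEq.respectTransparency.types false
set_option synthInstance.maxHeartbeats 400000
set_option maxHeartbeats 1600000

universe u

open CategoryTheory CategoryTheory.Limits AlgebraicGeometry Opposite
open Groth.Agent Groth.Agent.EtShLib DescSecLib EtContLib EtBcLimLib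

noncomputable section

namespace EtBcWitLib

attribute [local instance] EtSliceLib.pullExact

variable {X S T Y : Scheme.{u}}

section Mu

variable {T' T'' : Scheme.{u}} (a : T' ⟶ T) (u : T'' ⟶ T') (b : T'' ⟶ T) (hu : u ≫ a = b) (G : EtCoh.Ab T)

/-- The comparison of inverse images. -/
def mu : (EtCoh.pull a).obj G ⟶ (EtCoh.push u).obj ((EtCoh.pull b).obj G) :=
  ((EtCoh.pullPushAdj a).homEquiv _ _).symm ((EtCoh.pullPushAdj b).unit.app G ≫ (etPc u a b hu).app _)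

theorem unit_mu : (EtCoh.pullPushAdj a).unit.app G ≫ (EtCoh.push a).map (mu a u b hu G) =
    (EtCoh.pullPushAdj b).unit.app G ≫ (etPc u a b hu).app _ :=
  ((EtCoh.pullPushAdj a).homEquiv_unit _ _ _).symm.trans (Equiv.apply_symm_apply _ _)

theorem sig_mu {Ω : Type u} [Field Ω] [IsSepClosed Ω] (ξ : Spec (CommRingCat.of Ω) ⟶ T'')
    (η : Spec (CommRingCat.of Ω) ⟶ T') (ζ : Spec (CommRingCat.of Ω) ⟶ T) (wu : ξ ≫ u = η) (wa : η ≫ a = ζ)
    (wb : ξ ≫ b = ζ) (y : ToType ((stk (A := AddCommGrpCat.{u + 1}) ζ).obj G)) :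
    sig u ξ η wu (mu a u b hu G) (sig a η ζ wa ((EtCoh.pullPushAdj a).unit.app G) y) =
      sig b ξ ζ wb ((EtCoh.pullPushAdj b).unit.app G) y :=
  sig_comp u a b hu ξ η ζ wu wa wb _ _ _ (unit_mu a u b hu G) y

theorem bijective_sig_mu {Ω : Type u} [Field Ω] [IsSepClosed Ω] (ξ : Spec (CommRingCat.of Ω) ⟶ T'')
    (η : Spec (CommRingCat.of Ω) ⟶ T') (wu : ξ ≫ u = η) :
    Function.Bijective (sig u ξ η wu (mu a u b hu G)) := by
  have wb : ξ ≫ b = η ≫ a := by rw [← hu, ← Category.assoc, wu]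
  have h1 := bijective_sig_unit a G η (η ≫ a) rfl
  have h2 := bijective_sig_unit b G ξ (η ≫ a) wb
  refine ⟨fun x x' hx => ?_, fun x => ?_⟩
  · obtain ⟨y, rfl⟩ := h1.2 x
    obtain ⟨y', rfl⟩ := h1.2 x'
    rw [h2.1 (((sig_mu a u b hu G ξ η _ wu rfl wb y).symm.trans hx).trans (sig_mu a u b hu G ξ η _ wu rfl wb y'))]
  · obtain ⟨y, rfl⟩ := h2.2 x
    exact ⟨_, sig_mu a u b hu G ξ η _ wu rfl wb y⟩

end Mu

variable {g : T ⟶ S} {h : Y ⟶ X} {e : Y ⟶ T} {f : X ⟶ S}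

section Sub

variable (E E'' : St g h e) (u : E''.T' ⟶ E.T') (u' : E''.Y' ⟶ E.Y') (hu : u ≫ E.t = E''.t)
  (hu' : u' ≫ E.t' = E''.t') (cu : IsPullback E''.e' u' u E.e')

/-- A morphism of schemes over the source. -/
def St.sub : St E.gt E.ht E.e' where
  T' := E''.T'
  Y' := E''.Y'
  t := u
  t' := u'
  e' := E''.e'
  gt := E''.gt
  ht := E''.ht
  hg := by rw [← E.hg, ← Category.assoc, hu, E''.hg]
  hh := by rw [← E.hh, ← Category.assoc, hu', E''.hh]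
  c := cu

variable {Ω : Type u} [Field Ω] [IsSepClosed Ω] (ξ : Spec (CommRingCat.of Ω) ⟶ X) (q : ℕ)
  (c : IsPullback e h g f) {G : EtCoh.Ab T} {G' : EtCoh.Ab E.T'} {G'' : EtCoh.Ab E''.T'}
  (ψ : G ⟶ (EtCoh.push E.t).obj G') (ψ' : G' ⟶ (EtCoh.push u).obj G'') (ψ'' : G ⟶ (EtCoh.push E''.t).obj G'')
  (hψ : ψ ≫ (EtCoh.push E.t).map ψ' = ψ'' ≫ (etPc u E.t E''.t hu).app G'')

include hψ in
theorem img_sub (z : ToType ((stk (A := AddCommGrpCat.{u + 1}) ξ).obj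
    ((EtCoh.Rpush h q).obj ((EtCoh.pull e).obj G)))) :
    (E.sub E'' u u' hu hu' cu).img ξ q ψ' (E.img ξ q ψ z) = E''.img ξ q ψ'' z := by
  obtain ⟨T'', Y'', t'', t''', e'', gt, ht, hg, hh, cc⟩ := E''
  dsimp only at u u' hu hu' cu ψ' ψ'' hψ ⊢
  subst hu hu'
  exact img_trans ξ q E (E.sub ⟨T'', Y'', u ≫ E.t, u' ≫ E.t', e'', gt, ht, hg, hh, cc⟩ u u' rfl rfl cu) ψ ψ' ψ'' hψ z

include hψ u' hu' cu in
theorem zero_sub {z} (hz : Zero ξ q c E ψ z) : Zero ξ q c E'' ψ'' z := by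
  obtain ⟨y, hy⟩ := hz
  exact ⟨_, ((img_bc ξ q (E.cart c) (E.sub E'' u u' hu hu' cu) ψ' y).symm.trans (congrArg _ hy)).trans
    (img_sub E E'' u u' hu hu' cu ξ q ψ ψ' ψ'' hψ z)⟩

include hψ in
theorem zero_rel {z} (hz : Zero ξ q c E'' ψ'' z) :
    Zero ξ q (E.cart c) (E.sub E'' u u' hu hu' cu) ψ' (E.img ξ q ψ z) := by
  obtain ⟨y, hy⟩ := hz
  exact ⟨y, hy.trans (img_sub E E'' u u' hu hu' cu ξ q ψ ψ' ψ'' hψ z).symm⟩

end Sub

section At

theorem mem_range_of_joint' {Ω : Type u} [Field Ω] [IsSepClosed Ω] (ξ : Spec (CommRingCat.of Ω) ⟶ X)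
    (c : IsPullback e h g f) {n q : ℕ} (hq : 1 ≤ q) (Hlow : Low f n (q - 1))
    [QuasiCompact g] [QuasiSeparated g] {G : EtCoh.Ab T} (hG : EtCoh.KilledBy n G)
    (E₁ E₂ : St g h e) [QuasiCompact E₁.t] [QuasiSeparated E₁.t] [QuasiCompact E₂.t] [QuasiSeparated E₂.t]
    {G₁ : EtCoh.Ab E₁.T'} {G₂ : EtCoh.Ab E₂.T'} (hG₁ : EtCoh.KilledBy n G₁) (hG₂ : EtCoh.KilledBy n G₂)
    (ψ₁ : G ⟶ (EtCoh.push E₁.t).obj G₁) (ψ₂ : G ⟶ (EtCoh.push E₂.t).obj G₂) (hm : Mono (biprod.lift ψ₁ ψ₂))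
    {z} (h₁ : Zero ξ q c E₁ ψ₁ z) (h₂ : Zero ξ q c E₂ ψ₂ z) : ∃ y, bc ξ q c G y = z :=
  mem_range_of_joint ξ c hq Hlow hG E₁ E₂ hG₁ hG₂ ψ₁ ψ₂ h₁ h₂

/-- A scheme over the source. -/
def mk {T' : Scheme.{u}} (a : T' ⟶ T) (g : T ⟶ S) (h : Y ⟶ X) (e : Y ⟶ T) : St g h e where
  T' := T'
  Y' := pullback a e
  t := a
  t' := pullback.snd a e
  e' := pullback.fst a e
  gt := a ≫ g
  ht := pullback.snd a e ≫ h
  hg := rfl
  hh := rfl
  c := IsPullback.of_hasPullback a e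

/-- The map of fibre products. -/
abbrev pm {T' T'' : Scheme.{u}} (a : T' ⟶ T) (u : T'' ⟶ T') (b : T'' ⟶ T) (hu : u ≫ a = b) (e : Y ⟶ T) :
    pullback b e ⟶ pullback a e :=
  pullback.lift (pullback.fst b e ≫ u) (pullback.snd b e) (by rw [Category.assoc, hu, pullback.condition])

theorem isPullback_pm {T' T'' : Scheme.{u}} (a : T' ⟶ T) (u : T'' ⟶ T') (b : T'' ⟶ T) (hu : u ≫ a = b) (e : Y ⟶ T) :
    IsPullback (pullback.fst b e) (pm a u b hu e) u (pullback.fst a e) := by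
  refine IsPullback.of_bot ?_ (pullback.lift_fst _ _ _).symm (IsPullback.of_hasPullback a e)
  rw [pm, pullback.lift_snd, hu]
  exact IsPullback.of_hasPullback b e

/-- The morphism between two schemes over the source. -/
abbrev mkSub {T' T'' : Scheme.{u}} (a : T' ⟶ T) (u : T'' ⟶ T') (b : T'' ⟶ T) (hu : u ≫ a = b) :
    St (mk a g h e).gt (mk a g h e).ht (mk a g h e).e' :=
  (mk a g h e).sub (mk b g h e) u (pm a u b hu e) hu (pullback.lift_snd _ _ _) (isPullback_pm a u b hu e)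

variable {Ω : Type u} [Field Ω] [IsSepClosed Ω] (ξ : Spec (CommRingCat.of Ω) ⟶ X) (q : ℕ)
  (c : IsPullback e h g f) {G : EtCoh.Ab T}

/-- The class comes from the base after restriction to a scheme over the source. -/
def ZeroAt {T' : Scheme.{u}} (a : T' ⟶ T)
    (z : ToType ((stk (A := AddCommGrpCat.{u + 1}) ξ).obj ((EtCoh.Rpush h q).obj ((EtCoh.pull e).obj G)))) : Prop :=
  Zero ξ q c (mk a g h e) ((EtCoh.pullPushAdj a).unit.app G) z

variable {T' T'' : Scheme.{u}} (a : T' ⟶ T) (u : T'' ⟶ T') (b : T'' ⟶ T) (hu : u ≫ a = b)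

include hu in
theorem zeroAt_of_map {z} (hz : ZeroAt ξ q c (G := G) a z) : ZeroAt ξ q c b z :=
  zero_sub (mk a g h e) (mk b g h e) u (pm a u b hu e) hu (pullback.lift_snd _ _ _) (isPullback_pm a u b hu e)
    ξ q c _ (mu a u b hu G) _ (unit_mu a u b hu G) hz

theorem zeroAt_rel {z} (hz : ZeroAt ξ q c (G := G) b z) :
    Zero ξ q ((mk a g h e).cart c) (mkSub a u b hu) (mu a u b hu G)
      ((mk a g h e).img ξ q ((EtCoh.pullPushAdj a).unit.app G) z) :=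
  zero_rel (mk a g h e) (mk b g h e) u (pm a u b hu e) hu (pullback.lift_snd _ _ _) (isPullback_pm a u b hu e)
    ξ q c _ (mu a u b hu G) _ (unit_mu a u b hu G) hz

include c in
/-- Two schemes over a scheme over the source which detect sections detect the obstruction. -/
theorem zeroAt_of_mono {n : ℕ} (hq : 1 ≤ q) (Hlow : Low f n (q - 1))
    [QuasiCompact (a ≫ g)] [QuasiSeparated (a ≫ g)] (hG : EtCoh.KilledBy n G)
    {T₁ T₂ : Scheme.{u}} (u₁ : T₁ ⟶ T') (u₂ : T₂ ⟶ T') [QuasiCompact u₁] [QuasiSeparated u₁]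
    [QuasiCompact u₂] [QuasiSeparated u₂]
    (hm : Mono (biprod.lift (mu a u₁ (u₁ ≫ a) rfl G) (mu a u₂ (u₂ ≫ a) rfl G)))
    {z} (h₁ : ZeroAt ξ q c (G := G) (u₁ ≫ a) z) (h₂ : ZeroAt ξ q c (G := G) (u₂ ≫ a) z) :
    ZeroAt ξ q c a z := by
  haveI : QuasiCompact (mk a g h e).gt := ‹QuasiCompact (a ≫ g)›
  haveI : QuasiSeparated (mk a g h e).gt := ‹QuasiSeparated (a ≫ g)›
  haveI : QuasiCompact (mkSub (g := g) (h := h) (e := e) a u₁ (u₁ ≫ a) rfl).t := ‹QuasiCompact u₁›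
  haveI : QuasiSeparated (mkSub (g := g) (h := h) (e := e) a u₁ (u₁ ≫ a) rfl).t := ‹QuasiSeparated u₁›
  haveI : QuasiCompact (mkSub (g := g) (h := h) (e := e) a u₂ (u₂ ≫ a) rfl).t := ‹QuasiCompact u₂›
  haveI : QuasiSeparated (mkSub (g := g) (h := h) (e := e) a u₂ (u₂ ≫ a) rfl).t := ‹QuasiSeparated u₂›
  exact mem_range_of_joint' ξ ((mk a g h e).cart c) hq Hlow (EtBcKilledLib.killed_obj (EtCoh.pull a) hG)
    (mkSub a u₁ (u₁ ≫ a) rfl) (mkSub a u₂ (u₂ ≫ a) rfl) (EtBcKilledLib.killed_obj (EtCoh.pull (u₁ ≫ a)) hG)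
    (EtBcKilledLib.killed_obj (EtCoh.pull (u₂ ≫ a)) hG) (mu a u₁ (u₁ ≫ a) rfl G) (mu a u₂ (u₂ ≫ a) rfl G) hm
    (zeroAt_rel ξ q c a u₁ _ rfl h₁) (zeroAt_rel ξ q c a u₂ _ rfl h₂)

theorem mono_lift_of_cover {T' : Scheme.{u}} (a : T' ⟶ T) (G : EtCoh.Ab T) {T₁ T₂ : Scheme.{u}} (u₁ : T₁ ⟶ T')
    (u₂ : T₂ ⟶ T')
    (hcov : ∀ (Ω' : Type u) [Field Ω'] [IsSepClosed Ω'] (ζ : Spec (CommRingCat.of Ω') ⟶ T'),
      (∃ l, l ≫ u₁ = ζ) ∨ ∃ l, l ≫ u₂ = ζ) :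
    Mono (biprod.lift (mu a u₁ (u₁ ≫ a) rfl G) (mu a u₂ (u₂ ≫ a) rfl G)) := by
  refine (mono_iff_stalks (A := AddCommGrpCat.{u + 1}) _).2 fun Ω' _ _ ζ => ?_
  let B := biprod.lift (mu a u₁ (u₁ ≫ a) rfl G) (mu a u₂ (u₂ ≫ a) rfl G)
  refine (AddCommGrpCat.mono_iff_injective _).2 fun x x' hx => ?_
  rcases hcov Ω' ζ with ⟨l, hl⟩ | ⟨l, hl⟩
  · refine (bijective_sig_mu a u₁ (u₁ ≫ a) rfl G l ζ hl).1 ?_
    rw [← show B ≫ biprod.fst = mu a u₁ (u₁ ≫ a) rfl G from biprod.lift_fst _ _, sig_precomp, sig_precomp]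
    exact congrArg _ hx
  · refine (bijective_sig_mu a u₂ (u₂ ≫ a) rfl G l ζ hl).1 ?_
    rw [← show B ≫ biprod.snd = mu a u₂ (u₂ ≫ a) rfl G from biprod.lift_snd _ _, sig_precomp, sig_precomp]
    exact congrArg _ hx

theorem mono_lift_of_surjective {T' : Scheme.{u}} (a : T' ⟶ T) (G : EtCoh.Ab T) {T₁ : Scheme.{u}} (u₁ : T₁ ⟶ T')
    [Surjective u₁] :
    Mono (biprod.lift (mu a u₁ (u₁ ≫ a) rfl G) (mu a u₁ (u₁ ≫ a) rfl G)) := by
  let m := mu a u₁ (u₁ ≫ a) rfl G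
  haveI : IsIso (adjL u₁ m) := EtShLib.isIso_of_stalks (A := AddCommGrpCat.{u + 1}) _ fun Ω' _ _ ζ =>
    isIso_of_bijective_sig u₁ ζ (ζ ≫ u₁) rfl m (bijective_sig_mu a u₁ (u₁ ≫ a) rfl G ζ _ rfl)
  haveI : Mono m := by
    have e : m = (EtCoh.pullPushAdj u₁).unit.app _ ≫ (EtCoh.push u₁).map (adjL u₁ m) :=
      ((Equiv.apply_symm_apply ((EtCoh.pullPushAdj u₁).homEquiv _ _) m).symm).trans
        (Adjunction.homEquiv_unit _ _ _ _)
    rw [e]
    haveI := EtBcQLib.mono_unit u₁ u₁.surjective ((EtCoh.pull a).obj G)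
    exact mono_comp _ _
  exact mono_of_mono_fac (biprod.lift_fst m m)

variable {n : ℕ}

include c in
/-- If the class comes from the base on the whole source, it is in the image of base change. -/
theorem mem_range_of_zeroAt_id (hq : 1 ≤ q) (Hlow : Low f n (q - 1)) [QuasiCompact g] [QuasiSeparated g]
    (hG : EtCoh.KilledBy n G) {z} (hz : ZeroAt ξ q c (G := G) (𝟙 T) z) : ∃ y, bc ξ q c G y = z := by
  haveI : QuasiCompact (mk (𝟙 T) g h e).t := inferInstanceAs (QuasiCompact (𝟙 T))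
  haveI : QuasiSeparated (mk (𝟙 T) g h e).t := inferInstanceAs (QuasiSeparated (𝟙 T))
  let v := (EtCoh.pullPushAdj (𝟙 T)).unit.app G
  have hm : Mono (biprod.lift v v) := by
    refine (mono_iff_stalks (A := AddCommGrpCat.{u + 1}) _).2 fun Ω' _ _ ζ => ?_
    refine (AddCommGrpCat.mono_iff_injective _).2 fun x x' hx => ?_
    refine (bijective_sig_unit (𝟙 T) G ζ ζ (Category.comp_id ζ)).1 ?_
    show sig (𝟙 T) ζ ζ (Category.comp_id ζ) v x = sig (𝟙 T) ζ ζ (Category.comp_id ζ) v x'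
    rw [← show biprod.lift v v ≫ biprod.fst = v from biprod.lift_fst _ _, sig_precomp, sig_precomp]
    exact congrArg _ hx
  exact mem_range_of_joint' ξ c hq Hlow hG (mk (𝟙 T) g h e) (mk (𝟙 T) g h e)
    (EtBcKilledLib.killed_obj (EtCoh.pull (𝟙 T)) hG) (EtBcKilledLib.killed_obj (EtCoh.pull (𝟙 T)) hG) v v hm hz hz

end At

end EtBcWitLib
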