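/-
An obstruction which vanishes at a limit of schemes over the source vanishes at a finite stage.
-/
import Groth.Agent.EtBcWitLib.At
import Groth.Agent.EtBcLimLib.Main

set_option autoImplicit false
set_option linter.all false
set_option backward.isDefEq.respectTransparency false
set_option backward.isDefEq.respectTransparency.types false
set_option synthInstance.maxHeartbeats 400000
set_option maxHeartbeats 1600000

universe u

open CategoryTheory CategoryTheory.Limits AlgebraicGeometry Opposite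
open Groth.Agent Groth.Agent.EtShLib DescSecLib EtContLib EtBcLimLib

noncomputable section

namespace EtBcWitLib

attribute [local instance] EtSliceLib.pullExact

section GenVanPoints

variable {I : Type u} [SmallCategory I] {Ts Ss : I ⥤ Scheme.{u}} (gN : Ts ⟶ Ss)
  {cT : Cone Ts} {cS : Cone Ss} (g : cT.pt ⟶ cS.pt) (hg : ∀ i, cT.π.app i ≫ gN.app i = g ≫ cS.π.app i)
  (Rs : PreSys Ts) (G : EtCoh.Ab cT.pt) (ψ : ∀ i, Rs.F i ⟶ (EtCoh.push (cT.π.app i)).obj G) (q : ℕ)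
  {Ω : Type u} [Field Ω] [IsSepClosed Ω] (η : Spec (CommRingCat.of Ω) ⟶ cS.pt)
  (ηi : ∀ i, Spec (CommRingCat.of Ω) ⟶ Ss.obj i) (wi : ∀ i, η ≫ cS.π.app i = ηi i)

include wi in
theorem genVan_pts (H : GenVan gN g hg Rs G ψ q η) :
    (∀ z : ToType ((stk (A := AddCommGrpCat.{u + 1}) η).obj ((EtCoh.Rpush g q).obj G)),
      ∃ (i : I) (y : ToType ((stk (A := AddCommGrpCat.{u + 1}) (ηi i)).obj ((EtCoh.Rpush (gN.app i) q).obj (Rs.F i)))),
        sig (cS.π.app i) η (ηi i) (wi i) (R (gN.app i) g (cS.π.app i) (cT.π.app i) (hg i) q (ψ i)) y = z) ∧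
    (∀ (i : I) (y : ToType ((stk (A := AddCommGrpCat.{u + 1}) (ηi i)).obj ((EtCoh.Rpush (gN.app i) q).obj (Rs.F i)))),
      sig (cS.π.app i) η (ηi i) (wi i) (R (gN.app i) g (cS.π.app i) (cT.π.app i) (hg i) q (ψ i)) y = 0 →
        ∃ (k : I) (a : k ⟶ i), sig (Ss.map a) (ηi k) (ηi i) (by rw [← wi k, ← wi i, Category.assoc, cS.w])
          (R (gN.app i) (gN.app k) (Ss.map a) (Ts.map a) (wa gN a) q (Rs.τ a)) y = 0) := by
  obtain rfl : ηi = fun i => η ≫ cS.π.app i := funext fun i => (wi i).symm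
  exact H

end GenVanPoints

variable {X S T Y : Scheme.{u}} {g : T ⟶ S} {h : Y ⟶ X} {e : Y ⟶ T} {f : X ⟶ S}
  {Ω : Type u} [Field Ω] [IsSepClosed Ω] (ξ : Spec (CommRingCat.of Ω) ⟶ X) (q : ℕ)
  (c : IsPullback e h g f) {G : EtCoh.Ab T}

variable {I : Type u} [SmallCategory I] [IsCofiltered I] (D : I ⥤ Scheme.{u}) (cn : Cone D) (hcn : IsLimit cn)
  (a : ∀ i, D.obj i ⟶ T) (ha : ∀ {i j : I} (m : i ⟶ j), D.map m ≫ a j = a i)
  (a₀ : cn.pt ⟶ T) (ha₀ : ∀ i, cn.π.app i ≫ a i = a₀)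

/-- The fibre products with the total space. -/
def ys : I ⥤ Scheme.{u} where
  obj i := pullback (a i) e
  map {i j} m := pm (a j) (D.map m) (a i) (ha m) e
  map_id i := by apply pullback.hom_ext <;> simp [pm]
  map_comp {i j k} m n := by apply pullback.hom_ext <;> simp [pm]

/-- The projection to the stages. -/
def eN : ys (e := e) D a ha ⟶ D where
  app i := pullback.fst (a i) e
  naturality i j m := pullback.lift_fst _ _ _

/-- The cone of fibre products. -/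
def cy : Cone (ys (e := e) D a ha) where
  pt := pullback a₀ e
  π :=
    { app := fun i => pm (a i) (cn.π.app i) a₀ (ha₀ i) e
      naturality := fun i j m => by
        show 𝟙 _ ≫ pm (a j) (cn.π.app j) a₀ (ha₀ j) e = pm (a i) (cn.π.app i) a₀ (ha₀ i) e ≫ pm (a j) (D.map m) (a i) (ha m) e
        apply pullback.hom_ext <;> simp [pm] }

/-- The system of inverse images. -/
def muSys (G : EtCoh.Ab T) : PreSys D where
  F i := (EtCoh.pull (a i)).obj G
  τ {k j} m := mu (a j) (D.map m) (a k) (ha m) G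
  comp {l k j} e' m b hb := by
    subst hb
    refine comp_ext_of_sig _ _ _ _ _ _ _ fun Ω' _ _ ζ y => ?_
    obtain ⟨x, rfl⟩ := (bijective_sig_unit (a j) G _ (((ζ ≫ D.map e') ≫ D.map m) ≫ a j) rfl).2 y
    erw [sig_mu (a j) (D.map m) (a k) (ha m) G (ζ ≫ D.map e') _ _ rfl rfl (by simp only [Category.assoc, ha]) x]
    erw [sig_mu (a k) (D.map e') (a l) (ha e') G ζ _ _ rfl _ (by simp only [Category.assoc, ha]) x]
    exact (sig_mu (a j) (D.map (e' ≫ m)) (a l) (ha (e' ≫ m)) G ζ _ _ (by rw [D.map_comp, Category.assoc]) rfl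
      (by simp only [Category.assoc, ha]) x).symm

/-- The maps to the limit. -/
def muψ (G : EtCoh.Ab T) (i : I) : (muSys D a ha G).F i ⟶ (EtCoh.push (cn.π.app i)).obj ((EtCoh.pull a₀).obj G) :=
  mu (a i) (cn.π.app i) a₀ (ha₀ i) G

theorem muψ_compat (G : EtCoh.Ab T) {k j : I} (m : k ⟶ j) :
    (muSys D a ha G).τ m ≫ (EtCoh.push (D.map m)).map (muψ D cn a ha a₀ ha₀ G k) =
      muψ D cn a ha a₀ ha₀ G j ≫ (etPc (cn.π.app k) (D.map m) (cn.π.app j) (cn.w m)).app _ := by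
  refine comp_ext_of_sig _ _ _ _ _ _ _ fun Ω' _ _ ζ y => ?_
  obtain ⟨x, rfl⟩ := (bijective_sig_unit (a j) G _ (((ζ ≫ cn.π.app k) ≫ D.map m) ≫ a j) rfl).2 y
  erw [sig_mu (a j) (D.map m) (a k) (ha m) G (ζ ≫ cn.π.app k) _ _ rfl rfl (by simp only [Category.assoc, ha]) x]
  erw [sig_mu (a k) (cn.π.app k) a₀ (ha₀ k) G ζ _ _ rfl _ (by simp only [Category.assoc, ha, ha₀]) x]
  exact (sig_mu (a j) (cn.π.app j) a₀ (ha₀ j) G ζ _ _ (by rw [Category.assoc, cn.w]) rfl
    (by simp only [Category.assoc, ha, ha₀]) x).symm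

theorem stkLim_mu (G : EtCoh.Ab T) :
    StkLim (c := cn) ((EtCoh.pull a₀).obj G) (fun {k j} m => (muSys D a ha G).τ m) (muψ D cn a ha a₀ ha₀ G) := by
  intro Ω' _ _ ζ
  refine ⟨fun z => ?_, fun i y hy => ?_⟩
  · obtain ⟨i⟩ := IsCofiltered.nonempty (C := I)
    obtain ⟨y, hy⟩ := (bijective_sig_mu (a i) (cn.π.app i) a₀ (ha₀ i) G ζ _ rfl).2 z
    exact ⟨i, y, hy⟩
  · obtain rfl : y = 0 := (bijective_sig_mu (a i) (cn.π.app i) a₀ (ha₀ i) G ζ _ rfl).1 (hy.trans (map_zero _).symm)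
    exact ⟨i, 𝟙 i, map_zero _⟩

include hcn ha ha₀ c in
/-- A vanishing obstruction at the limit vanishes at some stage. -/
theorem exists_zeroAt [∀ (i j : I) (m : i ⟶ j), IsAffineHom (D.map m)] [QuasiCompact g] [QuasiSeparated g]
    [∀ i, QuasiCompact (a i)] [∀ i, QuasiSeparated (a i)] {z} (hz : ZeroAt ξ q c (G := G) a₀ z) :
    ∃ i, ZeroAt ξ q c (G := G) (a i) z := by
  haveI := IsCofiltered.isConnected I
  let Xs : I ⥤ Scheme.{u} := (Functor.const I).obj X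
  let Ss : I ⥤ Scheme.{u} := (Functor.const I).obj S
  let gN : D ⟶ Ss :=
    { app := fun i => a i ≫ g
      naturality := fun i j m => by
        show D.map m ≫ a j ≫ g = (a i ≫ g) ≫ 𝟙 S
        rw [← Category.assoc, ha, Category.comp_id] }
  let hN : ys (e := e) D a ha ⟶ Xs :=
    { app := fun i => pullback.snd (a i) e ≫ h
      naturality := fun i j m => by
        show pm (a j) (D.map m) (a i) (ha m) e ≫ pullback.snd (a j) e ≫ h = (pullback.snd (a i) e ≫ h) ≫ 𝟙 X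
        rw [pm, ← Category.assoc, pullback.lift_snd, Category.comp_id] }
  let fN : Xs ⟶ Ss := (Functor.const I).map f
  let eN' : ys (e := e) D a ha ⟶ D := eN D a ha
  let cY : Cone (ys (e := e) D a ha) := cy D cn a ha a₀ ha₀
  have hcY : IsLimit cY :=
    isLimitOfIsPullbackOfIsConnected eN' _ _
      { hom := pullback.fst a₀ e, w := fun i => (pullback.lift_fst _ _ _).symm }
      (fun i => isPullback_pm (a i) (cn.π.app i) a₀ (ha₀ i) e |>.flip) hcn
  haveI : ∀ (i j : I) (m : i ⟶ j), IsAffineHom ((ys (e := e) D a ha).map m) := fun i j m =>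
    MorphismProperty.of_isPullback (isPullback_pm (a j) (D.map m) (a i) (ha m) e) (inferInstance : IsAffineHom (D.map m))
  haveI : ∀ (i j : I) (m : i ⟶ j), IsAffineHom (Ss.map m) := fun i j m => inferInstanceAs (IsAffineHom (𝟙 S))
  haveI : ∀ (i j : I) (m : i ⟶ j), IsAffineHom (Xs.map m) := fun i j m => inferInstanceAs (IsAffineHom (𝟙 X))
  haveI : ∀ i, QuasiCompact (gN.app i) := fun i => inferInstanceAs (QuasiCompact (a i ≫ g))
  haveI : ∀ i, QuasiSeparated (gN.app i) := fun i => inferInstanceAs (QuasiSeparated (a i ≫ g))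
  have sq : ∀ i, IsPullback (eN'.app i) (hN.app i) (gN.app i) (fN.app i) := fun i => (mk (a i) g h e).cart c
  haveI : ∀ i, QuasiCompact (hN.app i) := fun i =>
    MorphismProperty.of_isPullback (sq i) (inferInstance : QuasiCompact (gN.app i))
  haveI : ∀ i, QuasiSeparated (hN.app i) := fun i =>
    MorphismProperty.of_isPullback (sq i) (inferInstance : QuasiSeparated (gN.app i))
  let cS : Cone Ss := constCone I S
  let cX : Cone Xs := constCone I X
  let g₀ : cn.pt ⟶ cS.pt := a₀ ≫ g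
  let h₀ : cY.pt ⟶ cX.pt := pullback.snd a₀ e ≫ h
  have hg : ∀ i, cn.π.app i ≫ gN.app i = g₀ ≫ cS.π.app i := fun i => by
    show cn.π.app i ≫ a i ≫ g = (a₀ ≫ g) ≫ 𝟙 S
    rw [← Category.assoc, ha₀, Category.comp_id]
  have hh : ∀ i, cY.π.app i ≫ hN.app i = h₀ ≫ cX.π.app i := fun i => by
    show pm (a i) (cn.π.app i) a₀ (ha₀ i) e ≫ pullback.snd (a i) e ≫ h = (pullback.snd a₀ e ≫ h) ≫ 𝟙 X
    rw [pm, ← Category.assoc, pullback.lift_snd, Category.comp_id]
  have he : ∀ i, cY.π.app i ≫ eN'.app i = pullback.fst a₀ e ≫ cn.π.app i := fun i => pullback.lift_fst _ _ _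
  let Rs := muSys D a ha G
  let ψ := muψ D cn a ha a₀ ha₀ G
  have hψ := fun {k j : I} (m : k ⟶ j) => muψ_compat D cn a ha a₀ ha₀ G m
  have HS := genVan_pts gN g₀ hg Rs _ ψ q (ξ ≫ f) (fun _ => ξ ≫ f) (fun i => Category.comp_id _)
    (genVan_Rpush gN g₀ hg hcn (isLimitConstCone I S) Rs _ ψ hψ q (stkLim_mu D cn a ha a₀ ha₀ G) (ξ ≫ f))
  have HX := genVan_pts hN h₀ hh (pullSys eN' Rs) _ (ψp eN' _ he Rs _ ψ) q ξ (fun _ => ξ) (fun i => Category.comp_id _)
    (genVan_Rpush hN h₀ hh hcY (isLimitConstCone I X) (pullSys eN' Rs) _ (ψp eN' _ he Rs _ ψ)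
      (fun {k j} m => ψp_compat eN' _ he Rs _ ψ hψ m) q (stkLim_pull eN' _ he Rs _ ψ (stkLim_mu D cn a ha a₀ ha₀ G)) ξ)
  obtain ⟨y, hy⟩ := hz
  obtain ⟨i, yi, hyi⟩ := HS.1 y
  let E := mk (a i) g h e
  let E₀ := mkSub (g := g) (h := h) (e := e) (a i) (cn.π.app i) a₀ (ha₀ i)
  let zi := E.img ξ q ((EtCoh.pullPushAdj (a i)).unit.app G) z
  have h1 : E₀.img ξ q (ψ i) (bc ξ q (E.cart c) _ yi) = bc ξ q ((mk a₀ g h e).cart c) _ y :=
    (img_bc ξ q (E.cart c) E₀ (ψ i) yi).trans (congrArg _ hyi)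
  have h2 : E₀.img ξ q (ψ i) zi = (mk a₀ g h e).img ξ q ((EtCoh.pullPushAdj a₀).unit.app G) z :=
    img_sub E (mk a₀ g h e) (cn.π.app i) _ (ha₀ i) (pullback.lift_snd _ _ _)
      (isPullback_pm (a i) (cn.π.app i) a₀ (ha₀ i) e) ξ q _ (ψ i) _ (unit_mu (a i) (cn.π.app i) a₀ (ha₀ i) G) z
  obtain ⟨k, m, hk⟩ := HX.2 i (zi - bc ξ q (E.cart c) _ yi) (by
    show E₀.img ξ q (ψ i) _ = 0
    exact (map_sub _ _ _).trans (sub_eq_zero.mpr (h2.trans (hy.symm.trans h1.symm))))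
  let E₁ := mkSub (g := g) (h := h) (e := e) (a i) (D.map m) (a k) (ha m)
  have h3 : E₁.img ξ q (Rs.τ m) (zi - bc ξ q (E.cart c) _ yi) = 0 := hk
  have h4 := sub_eq_zero.mp ((map_sub _ _ _).symm.trans h3)
  refine ⟨k, _, ((img_bc ξ q (E.cart c) E₁ (Rs.τ m) yi).symm.trans h4.symm).trans ?_⟩
  exact img_sub E (mk (a k) g h e) (D.map m) _ (ha m) (pullback.lift_snd _ _ _)
    (isPullback_pm (a i) (D.map m) (a k) (ha m) e) ξ q _ (Rs.τ m) _ (unit_mu (a i) (D.map m) (a k) (ha m) G) z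

end EtBcWitLib
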