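/-
A field point at which base change fails.
-/
import Groth.Agent.EtBcWitLib.Limit
import Groth.Agent.S6666
import Groth.Agent.EtULABCLib.MonoLim

set_option autoImplicit false
set_option linter.all false
set_option backward.isDefEq.respectTransparency false
set_option backward.isDefEq.respectTransparency.types false
set_option synthInstance.maxHeartbeats 400000
set_option maxHeartbeats 1600000

universe u

open CategoryTheory CategoryTheory.Limits AlgebraicGeometry Opposite
open Groth.Agent Groth.Agent.EtShLib DescSecLib EtContLib EtBcLimLib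

noncomputable section

namespace EtBcWitLib

attribute [local instance] EtSliceLib.pullExact

variable {X S T Y : Scheme.{u}} {g : T ⟶ S} {h : Y ⟶ X} {e : Y ⟶ T} {f : X ⟶ S}

theorem isZero_of_isEmpty [IsEmpty T] (F : EtCoh.Ab T) : IsZero F := by
  rw [IsZero.iff_id_eq_zero]
  refine Sheaf.hom_ext (NatTrans.ext (funext fun V => ?_))
  ext s
  refine eq_of_germ (A := AddCommGrpCat.{u + 1}) F _ _ fun Ω _ _ ξ w => ?_
  exact (IsEmpty.false (ξ.base default)).elim

/-- A base change map which is injective and surjective on stalks is an isomorphism. -/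
theorem exists_not_mem_range (c : IsPullback e h g f) (q : ℕ) (F : EtCoh.Ab T)
    [Mono (EtBC.bcQ g f h e c.w q F)] (hF : ¬ IsIso (EtBC.bcQ g f h e c.w q F)) :
    ∃ (Ω : Type u) (_ : Field Ω) (_ : IsSepClosed Ω) (ξ : Spec (CommRingCat.of Ω) ⟶ X)
      (z : ToType ((stk (A := AddCommGrpCat.{u + 1}) ξ).obj ((EtCoh.Rpush h q).obj ((EtCoh.pull e).obj F)))),
      ∀ y, bc ξ q c F y ≠ z := by
  by_contra hall
  push Not at hall
  refine hF ((EtShLib.isIso_of_stalks (A := AddCommGrpCat.{u + 1}) _) fun Ω _ _ ξ => ?_)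
  let u := R g h f e c.w q ((EtCoh.pullPushAdj e).unit.app F)
  have e1 : adjL f u = EtBC.bcQ g f h e c.w q F := adjL_R_unit _ _ _ _ _ _ _
  haveI : Mono (adjL f u) := by rw [e1]; infer_instance
  rw [← e1]
  exact isIso_of_bijective_sig f ξ (ξ ≫ f) rfl u
    ⟨EtULABCLib.injective_sig f ξ (ξ ≫ f) rfl u, fun z => hall Ω inferInstance inferInstance ξ z⟩

/-- The class comes from the base when the base change map is an isomorphism. -/
theorem zeroAt_of_isIso (c : IsPullback e h g f) (q : ℕ) {Ω : Type u} [Field Ω] [IsSepClosed Ω]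
    (ξ : Spec (CommRingCat.of Ω) ⟶ X) {G : EtCoh.Ab T} {T' : Scheme.{u}} (a : T' ⟶ T) {z}
    (hiso : IsIso (EtBC.bcQ (a ≫ g) f (pullback.snd a e ≫ h) (pullback.fst a e) ((mk a g h e).cart c).w q
      ((EtCoh.pull a).obj G))) : ZeroAt ξ q c (G := G) a z :=
  (bijective_sig_bcQ (a ≫ g) (pullback.snd a e ≫ h) f (pullback.fst a e) ((mk a g h e).cart c).w q _ hiso ξ (ξ ≫ f)
    rfl).2 _

variable [IsAffine S]

/-- A field point at which base change fails, and then one with algebraically closed field. -/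
theorem exists_field_not_zero {n q : ℕ} (hq : 1 ≤ q) (Hlow : Low f n (q - 1)) (c : IsPullback e h g f)
    [QuasiCompact g] [QuasiSeparated g] (G : EtCoh.Ab T) (hG : EtCoh.KilledBy n G)
    (hbad : ¬ IsIso (EtBC.bcQ g f h e c.w q G)) :
    ∃ (Ω : Type u) (_ : Field Ω) (_ : IsSepClosed Ω) (ξ : Spec (CommRingCat.of Ω) ⟶ X)
      (z : ToType ((stk (A := AddCommGrpCat.{u + 1}) ξ).obj ((EtCoh.Rpush h q).obj ((EtCoh.pull e).obj G))))
      (K : Type u) (_ : Field K) (t : Spec (CommRingCat.of K) ⟶ T), ¬ ZeroAt ξ q c t z := by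
  haveI : CompactSpace T := QuasiCompact.compactSpace_of_compactSpace g
  haveI : QuasiSeparatedSpace T := quasiSeparatedSpace_of_quasiSeparated g
  have hlow : ∀ F : EtCoh.Ab T, EtCoh.KilledBy n F → IsIso (EtBC.bcQ g f h e c.w (q - 1) F) := fun F hF =>
    Hlow (𝟙 S) f (𝟙 X) (IsPullback.of_horiz_isIso ⟨by simp⟩) g h e c F hF (q - 1) le_rfl
  obtain ⟨i, rfl⟩ : ∃ i, q = i + 1 := ⟨q - 1, by omega⟩
  haveI : Mono (EtBC.bcQ g f h e c.w (i + 1) G) := EtBcKilledLib.mono_bcQ_succ g f h e c.w hlow G hG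
  obtain ⟨Ω, _, _, ξ, z, hz⟩ := exists_not_mem_range c (i + 1) G hbad
  haveI : Nonempty T := by
    by_contra hne
    rw [not_nonempty_iff] at hne
    refine hz 0 ?_
    have h0 : IsZero ((stk (A := AddCommGrpCat.{u + 1}) ξ).obj ((EtCoh.Rpush h (i + 1)).obj ((EtCoh.pull e).obj G))) :=
      Functor.map_isZero _ (Functor.map_isZero _ (Functor.map_isZero _ (isZero_of_isEmpty G)))
    exact (@AddCommGrpCat.subsingleton_of_isZero _ h0).elim _ _
  have qc : ∀ {A : Scheme.{u}} (a : A ⟶ T) [CompactSpace A] [QuasiSeparatedSpace A],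
      QuasiCompact (a ≫ g) ∧ QuasiSeparated (a ≫ g) := fun a _ _ =>
    ⟨(quasiCompact_iff_compactSpace _).2 inferInstance, (quasiSeparated_iff_quasiSeparatedSpace _).2 inferInstance⟩
  have qcu : ∀ {A B : Scheme.{u}} (v : A ⟶ B) [CompactSpace A] [QuasiSeparatedSpace A] [CompactSpace B]
      [QuasiSeparatedSpace B] (b : B ⟶ T), QuasiCompact v ∧ QuasiSeparated v := fun v _ _ _ _ b => by
    obtain ⟨h1, h2⟩ := qc (v ≫ b)
    obtain ⟨h3, h4⟩ := qc b
    rw [Category.assoc] at h1 h2
    exact ⟨QuasiCompact.of_comp v (b ≫ g), QuasiSeparated.of_comp v (b ≫ g)⟩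
  let P : ∀ ⦃T' : Scheme.{u}⦄, (T' ⟶ T) → Prop := fun _ a => ¬ ZeroAt ξ (i + 1) c (G := G) a z
  obtain ⟨K, _, t, ht⟩ := Groth.Agent.S6666.result T P
    (fun T' T'' a t _ _ _ _ _ _ => by
      refine ⟨fun hP hZ => hP (zeroAt_of_map ξ (i + 1) c a t (t ≫ a) rfl hZ), fun hP hZ => hP ?_⟩
      obtain ⟨h1, h2⟩ := qc a
      obtain ⟨h3, h4⟩ := qcu t a
      exact zeroAt_of_mono ξ (i + 1) c a hq Hlow hG t t (mono_lift_of_surjective a G t) hZ hZ)
    (fun I _ _ D cc hcc haff hqc hP hZ => by
      haveI := IsCofiltered.isConnected I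
      haveI : ∀ (i j : I) (m : i ⟶ j), IsAffineHom ((D ⋙ Over.forget T).map m) := haff
      haveI : ∀ j, QuasiCompact (D.obj j).hom := fun j => by
        haveI := (hqc j).1
        exact (quasiCompact_iff_compactSpace ((D.obj j).hom ≫ g)).2 inferInstance |>
          fun hh => @QuasiCompact.of_comp _ _ _ (D.obj j).hom g hh inferInstance
      haveI : ∀ j, QuasiSeparated (D.obj j).hom := fun j => by
        haveI := (hqc j).2
        exact (quasiSeparated_iff_quasiSeparatedSpace ((D.obj j).hom ≫ g)).2 inferInstance |>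
          fun hh => @QuasiSeparated.of_comp _ _ _ (D.obj j).hom g hh
      obtain ⟨j, hj⟩ := exists_zeroAt ξ (i + 1) c (D ⋙ Over.forget T) ((Over.forget T).mapCone cc)
        (isLimitOfPreserves (Over.forget T) hcc) (fun j => (D.obj j).hom) (fun {_ _} m => Over.w (D.map m))
        cc.pt.hom (fun j => Over.w (cc.π.app j)) hZ
      exact hP j hj)
    (fun T' Z V a _ _ ic _ j _ _ hVZ hP => by
      by_contra hboth
      rw [not_or, not_not, not_not] at hboth
      obtain ⟨h1, h2⟩ := qc a
      haveI : CompactSpace Z := QuasiCompact.compactSpace_of_compactSpace ic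
      haveI : QuasiSeparatedSpace Z := quasiSeparatedSpace_of_quasiSeparated ic
      haveI : QuasiSeparatedSpace V := quasiSeparatedSpace_of_quasiSeparated j
      obtain ⟨h3, h4⟩ := qcu j a
      refine hP (zeroAt_of_mono ξ (i + 1) c a hq Hlow hG j ic (mono_lift_of_cover a G j ic ?_) hboth.1 hboth.2)
      intro Ω' _ _ ζ
      have hr : Set.range ζ.base ⊆ {ζ.base default} := by
        rintro _ ⟨p, rfl⟩
        rw [Subsingleton.elim p default]
        rfl
      by_cases hx : ζ.base default ∈ Set.range j.base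
      · exact Or.inl ⟨IsOpenImmersion.lift j ζ (hr.trans (Set.singleton_subset_iff.2 hx)), IsOpenImmersion.lift_fac _ _ _⟩
      · right
        have hx' : ζ.base default ∈ Set.range ic.base := by
          by_contra hh
          exact hx (hVZ ▸ hh)
        obtain ⟨p, hp⟩ := hx'
        obtain ⟨w, -, hw⟩ := Scheme.Pullback.exists_preimage_pullback (f := ic) (g := ζ) p default hp
        haveI : Surjective (pullback.snd ic ζ) := ⟨fun b => ⟨w, hw.trans (Subsingleton.elim _ _)⟩⟩
        haveI : IsIso (pullback.snd ic ζ) := isIso_of_isClosedImmersion_of_surjective _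
        exact ⟨inv (pullback.snd ic ζ) ≫ pullback.fst ic ζ, by
          rw [Category.assoc, pullback.condition, IsIso.inv_hom_id_assoc]⟩)
    (fun hZ => by
      obtain ⟨y, hy⟩ := mem_range_of_zeroAt_id ξ (i + 1) c hq Hlow hG hZ
      exact hz y hy)
  exact ⟨Ω, inferInstance, inferInstance, ξ, z, K, inferInstance, t, ht⟩

end EtBcWitLib
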