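/-
Localising a failure of base change on the base.
-/
import Groth.Agent.EtBcWitLib.Witness
import Groth.Agent.EtBcQLib.Etale
import Mathlib.FieldTheory.IsAlgClosed.AlgebraicClosure

set_option autoImplicit false
set_option linter.all false
set_option backward.isDefEq.respectTransparency false
set_option backward.isDefEq.respectTransparency.types false
set_option synthInstance.maxHeartbeats 400000
set_option maxHeartbeats 1600000

universe u

open CategoryTheory CategoryTheory.Limits AlgebraicGeometry Opposite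
open Groth.Agent Groth.Agent.EtShLib DescSecLib EtContLib EtBcLimLib

noncomputable section

namespace EtBcWitLib

attribute [local instance] EtSliceLib.pullExact

/-- A failure of base change in degree `q` happens over an affine open of the base. -/
theorem exists_affine_bad {X S : Scheme.{u}} {f : X ⟶ S} {n q : ℕ} (Hlow : Low f n (q - 1))
    (hnot : ¬ (∀ ⦃S₂ X₂ T₂ Y₂ : Scheme.{u}⦄ (p₂ : S₂ ⟶ S) (f₂ : X₂ ⟶ S₂) (r₂ : X₂ ⟶ X),
        IsPullback r₂ f₂ f p₂ →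
        ∀ (g₂ : T₂ ⟶ S₂) (h₂ : Y₂ ⟶ X₂) (e₂ : Y₂ ⟶ T₂) (c₂ : IsPullback e₂ h₂ g₂ f₂)
          [QuasiCompact g₂] [QuasiSeparated g₂] [PreservesFiniteLimits (EtCoh.pull e₂)]
          (G₂ : EtCoh.Ab T₂), EtCoh.KilledBy n G₂ →
          ∀ q₂ : ℕ, q₂ ≤ q → IsIso (EtBC.bcQ g₂ f₂ h₂ e₂ c₂.w q₂ G₂))) :
    ∃ (S' X' T' Y' : Scheme.{u}) (_ : IsAffine S') (p : S' ⟶ S) (f' : X' ⟶ S') (r : X' ⟶ X)
      (_ : IsPullback r f' f p) (g' : T' ⟶ S') (h' : Y' ⟶ X') (e' : Y' ⟶ T') (c : IsPullback e' h' g' f')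
      (_ : QuasiCompact g') (_ : QuasiSeparated g') (G : EtCoh.Ab T') (_ : EtCoh.KilledBy n G),
      ¬ IsIso (EtBC.bcQ g' f' h' e' c.w q G) := by
  by_contra hall
  push Not at hall
  refine hnot fun S₂ X₂ T₂ Y₂ p₂ f₂ r₂ c₂ g h e c _ _ _ G hG q₂ hq₂ => ?_
  rcases Nat.lt_or_ge (q - 1) q₂ with hlt | hle
  swap
  · exact Hlow p₂ f₂ r₂ c₂ g h e c G hG q₂ hle
  obtain rfl : q₂ = q := by omega
  let V : S₂.affineOpens → S₂.Etale := fun O =>
    MorphismProperty.Over.mk ⊤ O.1.ι (inferInstanceAs (AlgebraicGeometry.Etale O.1.ι))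
  let U : S₂.affineOpens → X₂.Etale := fun O =>
    MorphismProperty.Over.mk ⊤ (f₂ ⁻¹ᵁ O.1).ι (inferInstanceAs (AlgebraicGeometry.Etale (f₂ ⁻¹ᵁ O.1).ι))
  have hU : EtCoh.Covers U := fun y => by
    obtain ⟨O, hO, hy, -⟩ := exists_isAffineOpen_mem_and_subset (X := S₂) (x := f₂.base y) (U := ⊤) trivial
    exact ⟨⟨O, hO⟩, ⟨y, hy⟩, rfl⟩
  refine EtBcQLib.isIso_bcQ_of_local f₂ g h e c G q₂ U hU V (fun O => f₂ ∣_ O.1)
    (fun O => morphismRestrict_ι f₂ O.1) (fun O => pullback g O.1.ι)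
    (fun O => pullback (pullback.snd g O.1.ι) (f₂ ∣_ O.1)) (fun O => pullback.snd g O.1.ι)
    (fun O => pullback.fst g O.1.ι) (fun O => IsPullback.of_hasPullback g O.1.ι)
    (fun O => pullback.snd (pullback.snd g O.1.ι) (f₂ ∣_ O.1))
    (fun O => pullback.fst (pullback.snd g O.1.ι) (f₂ ∣_ O.1))
    (fun O => IsPullback.of_hasPullback _ _) fun O => ?_
  haveI : QuasiCompact (pullback.snd g O.1.ι) := MorphismProperty.pullback_snd (P := @QuasiCompact) _ _ ‹QuasiCompact g›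
  haveI : QuasiSeparated (pullback.snd g O.1.ι) :=
    MorphismProperty.pullback_snd (P := @QuasiSeparated) _ _ ‹QuasiSeparated g›
  haveI : (EtCoh.pull (pullback.fst g O.1.ι)).Additive := (EtCoh.pullPushAdj _).left_adjoint_additive
  exact hall (O.1 : Scheme.{u}) _ _ _ O.2 (O.1.ι ≫ p₂) (f₂ ∣_ O.1) ((f₂ ⁻¹ᵁ O.1).ι ≫ r₂)
    ((isPullback_morphismRestrict f₂ O.1).flip.paste_horiz c₂) _ _ _ (IsPullback.of_hasPullback _ _)
    inferInstance inferInstance _ (EtBcKilledLib.killed_obj (EtCoh.pull (pullback.fst g O.1.ι)) hG)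

/-- An algebraically closed point at which base change fails on stalks. -/
theorem exists_algClosed_not_zero {X S T Y : Scheme.{u}} [IsAffine S] {g : T ⟶ S} {h : Y ⟶ X} {e : Y ⟶ T}
    {f : X ⟶ S} {n q : ℕ} (hq : 1 ≤ q) (Hlow : Low f n (q - 1)) (c : IsPullback e h g f) [QuasiCompact g]
    [QuasiSeparated g] (G : EtCoh.Ab T) (hG : EtCoh.KilledBy n G) (hbad : ¬ IsIso (EtBC.bcQ g f h e c.w q G)) :
    ∃ (K : Type u) (_ : Field K) (_ : IsAlgClosed K) (g' : Spec (CommRingCat.of K) ⟶ S) (Y' : Scheme.{u})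
      (h' : Y' ⟶ X) (e' : Y' ⟶ Spec (CommRingCat.of K)) (c' : IsPullback e' h' g' f)
      (F : EtCoh.Ab (Spec (CommRingCat.of K))), EtCoh.KilledBy n F ∧
      ¬ IsIso (EtBC.bcQ g' f h' e' c'.w q F) := by
  obtain ⟨Ω, _, _, ξ, z, K, _, t, ht⟩ := exists_field_not_zero hq Hlow c G hG hbad
  let u : Spec (CommRingCat.of (AlgebraicClosure K)) ⟶ Spec (CommRingCat.of K) :=
    Spec.map (CommRingCat.ofHom (algebraMap K (AlgebraicClosure K)))
  haveI : Surjective u := ⟨fun b => ⟨default, Subsingleton.elim _ _⟩⟩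
  haveI : QuasiCompact (t ≫ g) := (quasiCompact_iff_compactSpace _).2 inferInstance
  haveI : QuasiSeparated (t ≫ g) := (quasiSeparated_iff_quasiSeparatedSpace _).2 inferInstance
  refine ⟨AlgebraicClosure K, inferInstance, inferInstance, (u ≫ t) ≫ g, pullback (u ≫ t) e,
    pullback.snd (u ≫ t) e ≫ h, pullback.fst (u ≫ t) e, (mk (u ≫ t) g h e).cart c, (EtCoh.pull (u ≫ t)).obj G,
    EtBcKilledLib.killed_obj (EtCoh.pull (u ≫ t)) hG, fun hiso => ht ?_⟩
  have hz := zeroAt_of_isIso c q ξ (u ≫ t) (z := z) hiso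
  exact zeroAt_of_mono ξ q c t hq Hlow hG u u (mono_lift_of_surjective t G u) hz hz

end EtBcWitLib
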