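/-
A field point factors through a normal scheme with algebraically closed function field.
-/
import Groth.Agent.AicVanishLib.Rings
import Mathlib.AlgebraicGeometry.FunctionField
import Mathlib.AlgebraicGeometry.Morphisms.UnderlyingMap
import Mathlib.AlgebraicGeometry.Morphisms.Integral

set_option autoImplicit false
set_option linter.all false
set_option backward.isDefEq.respectTransparency false
set_option backward.isDefEq.respectTransparency.types false
set_option maxHeartbeats 1000000

universe u

open CategoryTheory CategoryTheory.Limits AlgebraicGeometry Opposite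

noncomputable section

namespace EtBcWitLib

theorem isAlgClosed_of_aic {F : Type u} [Field F] (h : Curves.IsAIC F) : IsAlgClosed F :=
  IsAlgClosed.of_exists_root _ fun p hp hirr => h p hp (Polynomial.natDegree_pos_iff_degree_pos.2
    (Polynomial.degree_pos_of_irreducible hirr))

theorem isAlgClosed_functionField {R : CommRingCat.{u}} [IsDomain R] (h : IsAlgClosed (FractionRing R)) :
    IsAlgClosed (Spec R).functionField :=
  IsAlgClosed.of_ringEquiv (FractionRing R) _ (FractionRing.algEquiv R (Spec R).functionField).toRingEquiv

/-- A field point of an affine scheme factors through a normal affine scheme with algebraically closed function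
field, dominantly, by an integral morphism. -/
theorem exists_normal_factor {S : Scheme.{u}} [IsAffine S] {K : Type u} [Field K] [IsAlgClosed K]
    (g : Spec (CommRingCat.of K) ⟶ S) :
    ∃ (S'' : Scheme.{u}) (_ : IsAffine S'') (_ : IsIntegral S'')
      (_ : ∀ s : S'', IsIntegrallyClosed (S''.presheaf.stalk s)) (_ : IsAlgClosed S''.functionField)
      (π : S'' ⟶ S) (_ : IsIntegralHom π) (g' : Spec (CommRingCat.of K) ⟶ S'') (_ : IsDominant g'),
      g' ≫ π = g := by
  let R : CommRingCat.{u} := Γ(S, ⊤)
  let φ : R ⟶ CommRingCat.of K := Spec.preimage (g ≫ S.isoSpec.hom)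
  have hφ : Spec.map φ = g ≫ S.isoSpec.hom := Spec.map_preimage _
  letI : Algebra R K := φ.hom.toAlgebra
  let A := integralClosure R K
  let ρ : R ⟶ CommRingCat.of A := CommRingCat.ofHom (algebraMap R A)
  let v : CommRingCat.of A ⟶ CommRingCat.of K := CommRingCat.ofHom A.val.toRingHom
  have hv : Function.Injective v.hom := Subtype.val_injective
  haveI : Nontrivial A := inferInstance
  haveI hA : IsIntegrallyClosed A := by
    refine (isIntegrallyClosed_iff (FractionRing A)).2 fun {x} hx => ?_
    let l : FractionRing A →ₐ[A] K := IsFractionRing.liftAlgHom (K := FractionRing A) (g := Algebra.ofId A K) hv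
    have h1 : IsIntegral A (l x) := hx.map l
    have h2 : IsIntegral R (l x) := isIntegral_trans (l x) h1
    exact ⟨⟨l x, h2⟩, l.injective ((l.commutes _).trans rfl)⟩
  haveI hK : IsAlgClosed (FractionRing A) :=
    isAlgClosed_of_aic (AicVanishLib.isAIC_localization (nonZeroDivisors A) (AicVanishLib.isAIC_integralClosure R K))
  haveI : IsIntegralHom (Spec.map ρ) := (IsIntegralHom.SpecMap_iff).2 (fun x => integralClosure.isIntegral x)
  refine ⟨Spec (CommRingCat.of A), inferInstance, inferInstance, fun s => ?_, ?_,
    Spec.map ρ ≫ S.isoSpec.inv, inferInstance, Spec.map v, ⟨?_⟩, ?_⟩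
  · let q : PrimeSpectrum A := s
    haveI : IsIntegrallyClosed ((AlgebraicGeometry.Spec.structureSheaf A).presheaf.stalk q) :=
      isIntegrallyClosed_of_isLocalization _ q.asIdeal.primeCompl q.asIdeal.primeCompl_le_nonZeroDivisors
    exact this
  · exact isAlgClosed_functionField (R := CommRingCat.of A) hK
  · refine (PrimeSpectrum.denseRange_comap_iff_ker_le_nilRadical _).2 ?_
    rw [(RingHom.injective_iff_ker_eq_bot _).1 hv]
    exact bot_le
  · rw [← Category.assoc, ← Spec.map_comp, show ρ ≫ v = φ from rfl, hφ, Category.assoc, Iso.hom_inv_id, Category.comp_id]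

end EtBcWitLib
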