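/-
Sheaves on the spectrum of a separably closed field are constant; vanishing for direct sums.
-/
import Groth.Agent.EtShLib.ConstSheaf
import Groth.Agent.EtShLib.StrictLocal
import Groth.Agent.SepPointLib.Basic
import Groth.Agent.EtPBCDLib.Coprod
import Groth.Agent.EtULABCLib.Leray
import Mathlib.LinearAlgebra.Basis.VectorSpace
import Mathlib.Algebra.Module.ZMod

set_option autoImplicit false
set_option linter.all false
set_option backward.isDefEq.respectTransparency false
set_option backward.isDefEq.respectTransparency.types false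
set_option synthInstance.maxHeartbeats 400000
set_option maxHeartbeats 1600000

universe u

open CategoryTheory CategoryTheory.Limits AlgebraicGeometry Opposite
open Groth.Agent Groth.Agent.EtShLib

noncomputable section

namespace EtBcWitLib

attribute [local instance] EtSliceLib.pullExact

section Point

variable (K : Type u) [Field K] [IsSepClosed K]

local notation "P" => Spec (CommRingCat.of K)

instance : IsSepClosed (IsLocalRing.ResidueField K) :=
  WLocalLib.isSepClosed_of_equiv
    (RingEquiv.ofBijective (IsLocalRing.residue K) ⟨(IsLocalRing.residue K).injective, IsLocalRing.residue_surjective⟩)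

theorem isZero_of_top {F : EtCoh.Ab P} (h : ∀ x : ToType (F.obj.obj (op (EtCoh.top P))), x = 0) : IsZero F := by
  rw [IsZero.iff_id_eq_zero]
  refine Sheaf.hom_ext (NatTrans.ext (funext fun W => ?_))
  ext s
  show s = 0
  let φ : W.unop.left ⟶ P := W.unop.hom
  haveI : AlgebraicGeometry.Etale φ := W.unop.prop
  refine res_ext F _ _ fun w => ?_
  obtain ⟨l, hl, hl'⟩ := Scheme.exists_fac_of_etale_of_isSepClosed φ (𝟙 P) w (Subsingleton.elim _ _)
  let σ : EtCoh.top P ⟶ W.unop := MorphismProperty.Over.homMk l hl
  exact ⟨_, σ, ⟨(default : ↥P), (congrArg (l.base) (Subsingleton.elim _ _)).trans hl'⟩, (h _).trans (h _).symm⟩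

theorem isIso_of_gsec {F G : EtCoh.Ab P} (φ : F ⟶ G)
    (h : Function.Bijective (φ.hom.app (op (EtCoh.top P)))) : IsIso φ := by
  haveI : Mono φ := by
    refine Preadditive.mono_of_kernel_zero (IsZero.eq_zero_of_src (isZero_of_top K fun x => ?_) _)
    have h1 : φ.hom.app (op (EtCoh.top P)) ((kernel.ι φ).hom.app (op (EtCoh.top P)) x) = 0 := by
      have := congrArg (fun t : kernel φ ⟶ G => t.hom.app (op (EtCoh.top P)) x) (kernel.condition φ)
      exact this
    have h2 : (kernel.ι φ).hom.app (op (EtCoh.top P)) x = 0 := h.1 (h1.trans (map_zero _).symm)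
    haveI : PreservesLimitsOfSize.{0, 0} (EtCore.gsec P) := (EtCore.constAdj P).rightAdjoint_preservesLimits
    haveI : (EtCore.gsec P).PreservesMonomorphisms :=
      Functor.preservesMonomorphisms_of_adjunction (EtCore.constAdj P)
    exact (AddCommGrpCat.mono_iff_injective _).1 (inferInstanceAs (Mono ((EtCore.gsec P).map (kernel.ι φ))))
      (h2.trans (map_zero _).symm)
  haveI : Epi φ := by
    refine Preadditive.epi_of_cokernel_zero (IsZero.eq_zero_of_tgt (isZero_of_top K fun x => ?_) _)
    obtain ⟨y, rfl⟩ := surjective_sections_of_epi K (cokernel.π φ) x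
    obtain ⟨z, rfl⟩ := h.2 y
    exact congrArg (fun t : F ⟶ cokernel φ => t.hom.app (op (EtCoh.top P)) z) (cokernel.condition φ)
  exact isIso_of_mono_of_epi φ

theorem bijective_cstUnit (M : AddCommGrpCat.{u + 1}) : Function.Bijective (cstUnit P M) := by
  haveI := isCst_cstUnit (X := P) (A := AddCommGrpCat.{u + 1}) M _ (closedPt K) (topPt K)
  have h := ConcreteCategory.bijective_of_isIso (cstUnit P M ≫ germ (closedPt K) _ (EtCoh.top P) (topPt K))
  refine (Function.Bijective.of_comp_iff' (bijective_germ_top K _) _).1 ?_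
  exact h

/-- A sheaf on a separably closed point is constant. -/
theorem isIso_counit (F : EtCoh.Ab P) : IsIso ((EtCore.constAdj P).counit.app F) := by
  have hu : Function.Bijective ((EtCore.constAdj P).unit.app ((EtCore.gsec P).obj F)) :=
    bijective_cstUnit K _
  refine isIso_of_gsec K _ ?_
  haveI : IsIso ((EtCore.constAdj P).unit.app ((EtCore.gsec P).obj F)) := (ConcreteCategory.isIso_iff_bijective _).2 hu
  haveI : IsIso ((EtCore.gsec P).map ((EtCore.constAdj P).counit.app F)) := by
    have h := (EtCore.constAdj P).right_triangle_components F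
    exact IsIso.of_isIso_fac_left h
  exact ConcreteCategory.bijective_of_isIso ((EtCore.gsec P).map ((EtCore.constAdj P).counit.app F))

end Point

section Sum

variable {Y X : Scheme.{u}} (h : Y ⟶ X) [QuasiCompact h] [QuasiSeparated h]

/-- Constant direct sums. -/
abbrev Sm (ι : Type (u + 1)) : EtCoh.Ab Y ⥤ EtCoh.Ab Y := Functor.const (Discrete ι) ⋙ colim

/-- Vanishing passes to direct sums. -/
theorem isZero_Rpush_sigma (ι : Type (u + 1)) : ∀ (q : ℕ) (A : EtCoh.Ab Y),
    IsZero ((EtCoh.Rpush h (q + 1)).obj A) → IsZero ((EtCoh.Rpush h (q + 1)).obj ((Sm ι).obj A)) := by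
  haveI := EtPBCDLib.preservesCoproducts_push h ι
  haveI : AB4OfSize.{u + 1} (EtCoh.Ab Y) := AB4.of_AB5 _
  haveI : PreservesFiniteLimits (colim (J := Discrete ι) (C := EtCoh.Ab Y)) :=
    (AB4OfSize.ofShape (C := EtCoh.Ab Y) ι).preservesFiniteLimits
  haveI : (Sm (Y := Y) ι).Additive := Functor.additive_of_preserves_binary_products _
  intro q
  induction q with
  | zero =>
    intro A hA
    let T := CohLib.injSC A
    have hT : T.ShortExact := CohLib.injSC_shortExact A
    haveI : Injective T.X₂ := inferInstanceAs (Injective (Injective.under A))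
    haveI hep : Epi ((EtCoh.push h).map T.g) :=
      (EtULABCLib.isZero_one_iff h hT (Functor.isZero_rightDerived_obj_injective_succ (EtCoh.push h) 0 T.X₂)).1 hA
    have hU : (T.map (Sm ι)).ShortExact := hT.map_of_exact (Sm ι)
    refine (EtULABCLib.isZero_one_iff h hU
      (EtPBCDLib.isZero_Rpush_sigma_injective h _ _ (colimit.isColimit ((Functor.const (Discrete ι)).obj T.X₂))
        (fun _ => ‹Injective T.X₂›) 1 Nat.one_pos)).2 ?_
    show Epi ((colim ⋙ EtCoh.push h).map ((Functor.const (Discrete ι)).map T.g))
    let Φ := preservesColimitNatIso (J := Discrete ι) (EtCoh.push h)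
    let g₀ := (Functor.const (Discrete ι)).map T.g
    suffices hh : Epi (((Functor.whiskeringRight (Discrete ι) _ _).obj (EtCoh.push h) ⋙ colim).map g₀) by
      rw [← NatIso.naturality_2 Φ g₀]
      exact inferInstanceAs (Epi (Φ.hom.app _ ≫ _ ≫ Φ.inv.app _))
    haveI : Epi (((Functor.whiskeringRight (Discrete ι) _ _).obj (EtCoh.push h)).map
        ((Functor.const (Discrete ι)).map T.g)) :=
      haveI : ∀ j, Epi ((((Functor.whiskeringRight (Discrete ι) _ _).obj (EtCoh.push h)).map
        ((Functor.const (Discrete ι)).map T.g)).app j) := fun j => hep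
      NatTrans.epi_of_epi_app _
    haveI : (colim (J := Discrete ι) (C := EtCoh.Ab X)).PreservesEpimorphisms :=
      Functor.preservesEpimorphisms_of_adjunction colimConstAdj
    exact inferInstanceAs (Epi (colim.map _))
  | succ q ih =>
    intro A hA
    let T := CohLib.injSC A
    have hT : T.ShortExact := CohLib.injSC_shortExact A
    haveI : Injective T.X₂ := inferInstanceAs (Injective (Injective.under A))
    have hU : (T.map (Sm ι)).ShortExact := hT.map_of_exact (Sm ι)
    haveI := EtULABCLib.isIso_δ_of_injective h hT q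
    have hC := ih T.X₃ (IsZero.of_iso hA (asIso ((EtCechInjLib.derDelta (EtCoh.push h)).δ hT (q + 1))))
    let D := EtCechInjLib.derDelta (EtCoh.push h)
    haveI : Epi (D.δ hU (q + 1)) := D.epi_δ hU (q + 1)
      (EtPBCDLib.isZero_Rpush_sigma_injective h _ _ (colimit.isColimit ((Functor.const (Discrete ι)).obj T.X₂))
        (fun _ => ‹Injective T.X₂›) (q + 2) (Nat.succ_pos _))
    exact IsZero.of_epi (D.δ hU (q + 1)) hC

end Sum

end EtBcWitLib
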