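/-
Sheaves killed by an integer on a separably closed point, split into cyclic pieces.
-/
import Groth.Agent.EtBcWitLib.Point
import Groth.Agent.EtBcKilledLib.Killed
import Groth.Prelude.Def_EtCore
import Mathlib.Algebra.Field.ZMod

set_option autoImplicit false
set_option linter.all false
set_option backward.isDefEq.respectTransparency false
set_option backward.isDefEq.respectTransparency.types false
set_option synthInstance.maxHeartbeats 400000
set_option maxHeartbeats 1600000

universe u v

open CategoryTheory CategoryTheory.Limits AlgebraicGeometry Opposite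
open Groth.Agent Groth.Agent.EtShLib

noncomputable section

namespace EtBcWitLib

attribute [local instance] EtSliceLib.pullExact

/-- A group killed by a prime is a direct sum of copies of the prime field. -/
theorem exists_sum_iso' {p : ℕ} [Fact p.Prime] (M₀ : Type v) [AddCommGroup M₀] [Module (ZMod p) M₀] :
    ∃ (B : Type v), Nonempty (colimit ((Functor.const (Discrete B)).obj
      (AddCommGrpCat.of (ULift.{v} (ZMod p)))) ≅ AddCommGrpCat.of M₀) := by
  classical
  let M := AddCommGrpCat.of M₀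
  obtain ⟨B, ⟨b⟩⟩ : ∃ B : Type v, Nonempty (Module.Basis B (ZMod p) M) :=
    ⟨_, ⟨Module.Basis.ofVectorSpace (ZMod p) M⟩⟩
  let C := AddCommGrpCat.of (ULift.{v} (ZMod p))
  let D := (Functor.const (Discrete B)).obj C
  let leg : B → (C ⟶ M) := fun i => AddCommGrpCat.ofHom
    (((LinearMap.id : ZMod p →ₗ[ZMod p] ZMod p).smulRight (b i)).toAddMonoidHom.comp AddEquiv.ulift.toAddMonoidHom)
  let φ : colimit D ⟶ M := colimit.desc D
    { pt := M, ι := Discrete.natTrans fun j => leg j.as }
  let ψ₀ : (B →₀ ZMod p) →+ ↑(colimit D) := Finsupp.liftAddHom fun i =>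
    (colimit.ι D ⟨i⟩).hom.comp AddEquiv.ulift.symm.toAddMonoidHom
  let ψ : M ⟶ colimit D := AddCommGrpCat.ofHom (ψ₀.comp b.repr.toAddEquiv.toAddMonoidHom)
  have hφ : ∀ (i : B) (z : C), φ (colimit.ι D ⟨i⟩ z) = z.down • b i := fun i z => by
    have e := colimit.ι_desc ({ pt := M, ι := Discrete.natTrans fun j => leg j.as } : Cocone D) ⟨i⟩
    exact ConcreteCategory.congr_hom e z
  refine ⟨B, ⟨⟨φ, ψ, ?_, ?_⟩⟩⟩
  · refine colimit.hom_ext fun j => ?_
    obtain ⟨i⟩ := j
    refine ConcreteCategory.hom_ext _ _ fun z => ?_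
    show ψ₀ (b.repr (φ (colimit.ι D ⟨i⟩ z))) = colimit.ι D ⟨i⟩ z
    rw [hφ, map_smul, Module.Basis.repr_self, Finsupp.smul_single', mul_one]
    exact Finsupp.liftAddHom_apply_single _ i z.down
  · refine ConcreteCategory.hom_ext _ _ fun x => ?_
    show φ (ψ₀ (b.repr x)) = x
    refine (?_ : φ (ψ₀ (b.repr x)) = b.repr.symm (b.repr x)).trans (b.repr.symm_apply_apply x)
    generalize b.repr x = l
    induction l using Finsupp.induction_linear with
    | zero => simp
    | add l l' h h' => rw [map_add, map_add, h, h', map_add]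
    | single i a =>
      rw [Module.Basis.repr_symm_single, show ψ₀ (Finsupp.single i a) = colimit.ι D ⟨i⟩ (ULift.up a) from
        Finsupp.liftAddHom_apply_single _ i a, hφ]

theorem exists_sum_iso {p : ℕ} [Fact p.Prime] (M : AddCommGrpCat.{v}) (hM : ∀ x : M, p • x = 0) :
    ∃ (B : Type v), Nonempty (colimit ((Functor.const (Discrete B)).obj
      (AddCommGrpCat.of (ULift.{v} (ZMod p)))) ≅ M) := by
  letI : Module (ZMod p) M := AddCommGroup.zmodModule hM
  exact exists_sum_iso' (p := p) M

variable {K : Type u} [Field K] [IsSepClosed K] {Y X : Scheme.{u}} (e : Y ⟶ Spec (CommRingCat.of K)) (h : Y ⟶ X)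
  [QuasiCompact h] [QuasiSeparated h]

/-- If the constant sheaves with cyclic values have no higher direct image, neither has any killed sheaf. -/
theorem isZero_Rpush_of_cyclic (q : ℕ) : ∀ (n : ℕ), 0 < n →
    (∀ p : ℕ, p.Prime → p ∣ n → IsZero ((EtCoh.Rpush h (q + 1)).obj (EtCoh.const Y (ZMod p)))) →
    ∀ F : EtCoh.Ab (Spec (CommRingCat.of K)), EtCoh.KilledBy n F →
      IsZero ((EtCoh.Rpush h (q + 1)).obj ((EtCoh.pull e).obj F)) := by
  intro n
  induction n using Nat.strong_induction_on with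
  | _ n ih =>
  intro hn hcyc F hF
  by_cases h1 : n = 1
  · subst h1
    have h0 := (EtBcKilledLib.killed_iff F).1 hF
    rw [one_smul] at h0
    exact Functor.map_isZero _ (Functor.map_isZero _ ((IsZero.iff_id_eq_zero F).2 h0))
  obtain ⟨p, hp, hpn⟩ := Nat.exists_prime_and_dvd h1
  haveI : Fact p.Prime := ⟨hp⟩
  -- the prime case
  have prime : ∀ F' : EtCoh.Ab (Spec (CommRingCat.of K)), EtCoh.KilledBy p F' →
      IsZero ((EtCoh.Rpush h (q + 1)).obj ((EtCoh.pull e).obj F')) := fun F' hF' => by
    obtain ⟨B, ⟨i⟩⟩ := exists_sum_iso (p := p) ((EtCore.gsec _).obj F') (fun x => hF' _ x)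
    haveI := isIso_counit K F'
    let cY := constantSheaf Y.smallEtaleTopology AddCommGrpCat.{u + 1}
    haveI : PreservesColimitsOfSize.{u + 1, u + 1} cY := (EtCore.constAdj Y).leftAdjoint_preservesColimits
    let C := AddCommGrpCat.of (ULift.{u + 1} (ZMod p))
    let D := (Functor.const (Discrete B)).obj C
    have hC : IsZero ((EtCoh.Rpush h (q + 1)).obj ((Sm B).obj (cY.obj C))) :=
      isZero_Rpush_sigma h B q (cY.obj C) (hcyc p hp hpn)
    refine IsZero.of_iso hC ((EtCoh.Rpush h (q + 1)).mapIso ?_)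
    exact (EtCoh.pull e).mapIso (asIso ((EtCore.constAdj _).counit.app F')).symm ≪≫
      (EtCore.pullConstIso e).app _ ≪≫ cY.mapIso i.symm ≪≫ preservesColimitIso cY D ≪≫
        HasColimit.isoOfNatIso (Discrete.natIso fun _ => Iso.refl _)
  let ι' := kernel.ι (p • 𝟙 F)
  let U : ShortComplex (EtCoh.Ab (Spec (CommRingCat.of K))) :=
    ShortComplex.mk ι' (Abelian.coimage.π (p • 𝟙 F)) (cokernel.condition _)
  have hU : U.ShortExact :=
    { exact := ShortComplex.exact_of_g_is_cokernel _ (cokernelIsCokernel _) }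
  have hk3 : EtCoh.KilledBy (n / p) U.X₃ := by
    rw [EtBcKilledLib.killed_iff, ← cancel_mono (Abelian.factorThruCoimage (p • 𝟙 F)),
      ← cancel_epi (Abelian.coimage.π (p • 𝟙 F))]
    rw [Preadditive.nsmul_comp, Category.id_comp, zero_comp, comp_zero, Preadditive.comp_nsmul,
      Abelian.coimage.fac, ← mul_smul, Nat.div_mul_cancel hpn]
    exact (EtBcKilledLib.killed_iff F).1 hF
  have hV := EtRpushStalkLib.shortExact_pull e hU
  have hm : n / p < n := Nat.div_lt_self hn hp.one_lt
  have h3 := ih (n / p) hm (Nat.div_pos (Nat.le_of_dvd hn hpn) hp.pos)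
    (fun p' hp' hd => hcyc p' hp' (hd.trans (Nat.div_dvd_of_dvd hpn))) U.X₃ hk3
  have hex := (EtCechInjLib.derDelta (EtCoh.push h)).exact₂ hV (q + 1)
  exact hex.isZero_of_both_zeros (IsZero.eq_of_src (prime _ (EtBcKilledLib.killed_kernel F p)) _ _)
    (IsZero.eq_of_tgt h3 _ _)

end EtBcWitLib
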