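/-
A normal witness with algebraically closed function field and cyclic coefficients.
-/
import Groth.Agent.EtBcWitLib.Main
import Groth.Agent.EtBcWitLib.Split
import Groth.Agent.EtBcWitLib.Normal
import Groth.Agent.EtBcKilledLib.Comp
import Groth.Agent.LocAcycPointLib.Main

set_option autoImplicit false
set_option linter.all false
set_option backward.isDefEq.respectTransparency false
set_option backward.isDefEq.respectTransparency.types false
set_option synthInstance.maxHeartbeats 400000
set_option maxHeartbeats 1600000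

universe u

open CategoryTheory CategoryTheory.Limits AlgebraicGeometry Opposite
open Groth.Agent Groth.Agent.EtShLib

noncomputable section

namespace EtBcWitLib

attribute [local instance] EtSliceLib.pullExact

/-- From a point where base change fails to a normal witness with cyclic coefficients. -/
theorem exists_normal_cyclic {X S : Scheme.{u}} [IsAffine S] (f : X ⟶ S) {n q : ℕ} (hq : 1 ≤ q) (hn : 0 < n)
    {K : Type u} [Field K] [IsAlgClosed K] {g : Spec (CommRingCat.of K) ⟶ S} {Y : Scheme.{u}} {h : Y ⟶ X}
    {e : Y ⟶ Spec (CommRingCat.of K)} (c : IsPullback e h g f) (F : EtCoh.Ab (Spec (CommRingCat.of K)))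
    (hF : EtCoh.KilledBy n F) (hno : ¬ IsIso (EtBC.bcQ g f h e c.w q F)) :
    ∃ (S' X' : Scheme.{u}) (_ : IsAffine S') (_ : IsIntegral S')
      (_ : ∀ s : S', IsIntegrallyClosed (S'.presheaf.stalk s)) (_ : IsAlgClosed S'.functionField)
      (p : S' ⟶ S) (f' : X' ⟶ S') (r : X' ⟶ X) (_ : IsPullback r f' f p)
      (g' : Spec (CommRingCat.of K) ⟶ S') (_ : IsDominant g')
      (h' : Y ⟶ X') (_ : IsPullback e h' g' f') (d : ℕ) (_ : d ∣ n),
      ¬ IsZero ((EtCoh.Rpush h' q).obj (EtCoh.const Y (ZMod d))) := by
  obtain ⟨i, rfl⟩ : ∃ i, q = i + 1 := ⟨q - 1, by omega⟩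
  haveI : QuasiCompact g := (quasiCompact_iff_compactSpace _).2 inferInstance
  haveI : QuasiSeparated g := (quasiSeparated_iff_quasiSeparatedSpace _).2 inferInstance
  have hne : ¬ IsZero ((EtCoh.Rpush h (i + 1)).obj ((EtCoh.pull e).obj F)) := fun hz =>
    hno (IsZero.isIso (Functor.map_isZero (EtCoh.pull f) (LocAcycPointLib.isZero_Rpush_point g F i)) hz _)
  obtain ⟨S', _, _, hN, hA, π, _, g', _, hg'⟩ := exists_normal_factor g
  let f' : pullback f π ⟶ S' := pullback.snd f π
  let π' : pullback f π ⟶ X := pullback.fst f π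
  let h' : Y ⟶ pullback f π := pullback.lift h (e ≫ g') (by rw [Category.assoc, hg', c.w])
  have cπ : IsPullback π' f' f π := IsPullback.of_hasPullback f π
  have c' : IsPullback e h' g' f' :=
    (IsPullback.of_right (h₁₁ := h') (by rw [pullback.lift_fst, hg']; exact c.flip) (pullback.lift_snd _ _ _) cπ).flip
  haveI : IsIntegralHom π' := MorphismProperty.of_isPullback cπ.flip ‹IsIntegralHom π›
  haveI := EtBcKilledLib.preservesFiniteColimits_push_integral π'
  haveI : QuasiCompact g' := (quasiCompact_iff_compactSpace _).2 inferInstance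
  haveI : QuasiSeparated g' := (quasiSeparated_iff_quasiSeparatedSpace _).2 inferInstance
  haveI : QuasiCompact h' := MorphismProperty.of_isPullback c' ‹QuasiCompact g'›
  haveI : QuasiSeparated h' := MorphismProperty.of_isPullback c' ‹QuasiSeparated g'›
  have hne' : ¬ IsZero ((EtCoh.Rpush h' (i + 1)).obj ((EtCoh.pull e).obj F)) := fun hz => hne
    (IsZero.of_iso (Functor.map_isZero (EtCoh.push π') hz)
      ((EtBcKilledLib.afterIso π' h' h (pullback.lift_fst _ _ _) (i + 1)).app ((EtCoh.pull e).obj F)))
  by_contra hall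
  refine hne' (isZero_Rpush_of_cyclic e h' i n hn (fun p _ hpn => ?_) F hF)
  by_contra hp
  exact hall ⟨S', pullback f π, inferInstance, inferInstance, hN, hA, π, f', π', cπ, g', inferInstance, h', c', p, hpn, hp⟩

end EtBcWitLib
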